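import Mathlib

/-!
Quadratic forms over the field of two elements describing the groups `2^(2+4)` with three involutions, and
a dictionary to evaluate them in a group.
-/

set_option autoImplicit false

namespace Cfsg.Agent.RankTwo

/-- Coordinates in the centre. -/
abbrev V2 := ZMod 2 × ZMod 2

/-- Coordinates modulo the centre. -/
abbrev E4 := Fin 4 → ZMod 2

/-- Commutators of the four generators, the last pair having commutator `w`. -/
def kform (w : V2) : Fin 4 → Fin 4 → V2 :=
  ![![0, 0, (1, 0), (1, 1)], ![0, 0, (1, 1), (0, 1)], ![(1, 0), (1, 1), 0, w], ![(1, 1), (0, 1), w, 0]]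

/-- Squares of the four generators. -/
def qgen (s : V2) : Fin 4 → V2 := ![(1, 0), (0, 1), s, (s.2, s.1 + s.2)]

/-- Commutator form. -/
def bform (w : V2) (e f : E4) : V2 :=
  let r : Fin 4 → V2 := fun i =>
    f 0 • kform w i 0 + f 1 • kform w i 1 + f 2 • kform w i 2 + f 3 • kform w i 3
  e 0 • r 0 + e 1 • r 1 + e 2 • r 2 + e 3 • r 3

/-- Square map. -/
def qform (s w : V2) (e : E4) : V2 :=
  e 0 • qgen s 0 + e 1 • qgen s 1 + e 2 • qgen s 2 + e 3 • qgen s 3
    + e 1 • e 0 • kform w 1 0 + (e 2 • (e 0 • kform w 2 0 + e 1 • kform w 2 1))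
    + e 3 • (e 0 • kform w 3 0 + e 1 • kform w 3 1 + e 2 • kform w 3 2)

/-- The candidate generators in the four possible cases. -/
def words (s w : V2) : Fin 4 → E4 :=
  if s = (0, 1) then
    if w = 0 then ![![0, 0, 1, 1], ![1, 0, 0, 0], ![1, 1, 1, 1], ![1, 1, 0, 1]]
    else ![![0, 1, 1, 1], ![1, 0, 0, 0], ![1, 0, 1, 1], ![1, 0, 0, 1]]
  else
    if w = 0 then ![![0, 0, 0, 1], ![0, 1, 0, 1], ![1, 0, 1, 1], ![1, 0, 0, 0]]
    else ![![0, 0, 0, 1], ![0, 1, 0, 1], ![0, 0, 1, 1], ![1, 0, 0, 0]]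

/-- The generators satisfy the relations. -/
def Good (s w : V2) : Prop :=
  (∀ i, qform s w (words s w i) = (1, 0)) ∧
  (∀ i j : Fin 4, i < j →
    bform w (words s w i) (words s w j) = if (j : ℕ) = i + 1 then (0, 1) else (1, 1)) ∧
  ∀ k : Fin 4, ∃ l : E4,
    l 0 • words s w 0 + l 1 • words s w 1 + l 2 • words s w 2 + l 3 • words s w 3 = Pi.single k 1

/-- There is an element of order two outside the centre. -/
def Bad (s w : V2) : Prop := ∃ e : E4, qform s w e = 0 ∧ bform w e (Pi.single 0 1) ≠ 0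

theorem good_or_bad : ∀ s w : V2, Good s w ∨ Bad s w := by
  unfold Good Bad
  decide +kernel

/-- Generators, central coordinates and their relations. -/
structure Dict {T : Type*} [Group T] (c : V2 → T) (g : Fin 4 → T) (s w : V2) : Prop where
  add : ∀ p q, c (p + q) = c p * c q
  central : ∀ p (x : T), x * c p = c p * x
  sq : ∀ i, g i * g i = c (qgen s i)
  comm : ∀ i j, g i * g j = c (kform w i j) * (g j * g i)

/-- The element with given coordinates. -/
def ev {T : Type*} [Group T] (g : Fin 4 → T) (e : E4) : T :=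
  g 0 ^ (e 0).val * g 1 ^ (e 1).val * g 2 ^ (e 2).val * g 3 ^ (e 3).val

namespace Dict

variable {T : Type*} [Group T] {c : V2 → T} {g : Fin 4 → T} {s w : V2} (D : Dict c g s w)
include D

theorem zero : c 0 = 1 := by
  have h := D.add 0 0
  rw [add_zero] at h
  exact left_eq_mul.1 h

theorem comm_mul_left {a b z : T} {p q : V2} (h : a * z = c p * (z * a)) (h' : b * z = c q * (z * b)) :
    a * b * z = c (p + q) * (z * (a * b)) := by
  rw [mul_assoc, h', ← mul_assoc, D.central, mul_assoc, ← mul_assoc a, h, D.add]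
  simp only [← mul_assoc]
  rw [show c q * c p = c p * c q by rw [← D.add, ← D.add, add_comm]]

theorem comm_mul_right {a b z : T} {p q : V2} (h : z * a = c p * (a * z)) (h' : z * b = c q * (b * z)) :
    z * (a * b) = c (p + q) * (a * b * z) := by
  rw [← mul_assoc, h, mul_assoc, mul_assoc a, h', ← mul_assoc a, D.central, D.add]
  simp only [← mul_assoc]

theorem comm_pow_left {a z : T} {p : V2} (h : a * z = c p * (z * a)) (n : ZMod 2) :
    a ^ n.val * z = c (n • p) * (z * a ^ n.val) := by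
  obtain rfl | rfl : n = 0 ∨ n = 1 := by decide +revert
  · simp [D.zero]
  · rw [show ((1 : ZMod 2)).val = 1 from rfl, pow_one, one_smul]; exact h

theorem comm_pow_right {a z : T} {p : V2} (h : z * a = c p * (a * z)) (n : ZMod 2) :
    z * a ^ n.val = c (n • p) * (a ^ n.val * z) := by
  obtain rfl | rfl : n = 0 ∨ n = 1 := by decide +revert
  · simp [D.zero]
  · rw [show ((1 : ZMod 2)).val = 1 from rfl, pow_one, one_smul]; exact h

theorem gen_ev (i : Fin 4) (f : E4) :
    g i * ev g f =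
      c (f 0 • kform w i 0 + f 1 • kform w i 1 + f 2 • kform w i 2 + f 3 • kform w i 3) * (ev g f * g i) :=
  D.comm_mul_right (D.comm_mul_right (D.comm_mul_right
    (D.comm_pow_right (D.comm i 0) _) (D.comm_pow_right (D.comm i 1) _))
    (D.comm_pow_right (D.comm i 2) _)) (D.comm_pow_right (D.comm i 3) _)

theorem ev_comm (e f : E4) : ev g e * ev g f = c (bform w e f) * (ev g f * ev g e) :=
  D.comm_mul_left (D.comm_mul_left (D.comm_mul_left
    (D.comm_pow_left (D.gen_ev 0 f) _) (D.comm_pow_left (D.gen_ev 1 f) _))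
    (D.comm_pow_left (D.gen_ev 2 f) _)) (D.comm_pow_left (D.gen_ev 3 f) _)

theorem sq_mul {a b : T} {p q r : V2} (ha : a * a = c p) (hb : b * b = c q)
    (h : b * a = c r * (a * b)) : a * b * (a * b) = c (p + q + r) := by
  rw [mul_assoc, ← mul_assoc b, h, mul_assoc (c r), ← mul_assoc a, D.central, mul_assoc a b b, hb,
    mul_assoc (c r), ← mul_assoc a, ha, add_comm (p + q), D.add, D.add]

theorem sq_pow {a : T} {p : V2} (h : a * a = c p) (n : ZMod 2) : a ^ n.val * a ^ n.val = c (n • p) := by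
  obtain rfl | rfl : n = 0 ∨ n = 1 := by decide +revert
  · simp [D.zero]
  · rw [show ((1 : ZMod 2)).val = 1 from rfl, pow_one, one_smul]; exact h

theorem ev_sq (e : E4) : ev g e * ev g e = c (qform s w e) := by
  have h1 := D.comm_pow_left (D.comm_pow_right (D.comm 1 0) (e 0)) (e 1)
  have h2 := D.comm_pow_left (D.comm_mul_right (D.comm_pow_right (D.comm 2 0) (e 0))
    (D.comm_pow_right (D.comm 2 1) (e 1))) (e 2)
  have h3 := D.comm_pow_left (D.comm_mul_right (D.comm_mul_right (D.comm_pow_right (D.comm 3 0) (e 0))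
    (D.comm_pow_right (D.comm 3 1) (e 1))) (D.comm_pow_right (D.comm 3 2) (e 2))) (e 3)
  rw [ev, D.sq_mul (D.sq_mul (D.sq_mul (D.sq_pow (D.sq 0) _) (D.sq_pow (D.sq 1) _) h1)
    (D.sq_pow (D.sq 2) _) h2) (D.sq_pow (D.sq 3) _) h3]
  congr 1
  simp only [qform]
  abel

theorem map_ev_add {Q : Type*} [Group Q] (π : T →* Q) (hπ : ∀ p, π (c p) = 1) (e f : E4) :
    π (ev g (e + f)) = π (ev g e) * π (ev g f) := by
  have hc : ∀ i j, Commute (π (g i)) (π (g j)) := fun i j => by
    show π (g i) * π (g j) = π (g j) * π (g i)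
    rw [← map_mul, D.comm, map_mul, hπ, one_mul, map_mul]
  have hp : ∀ i (a b : ZMod 2), π (g i) ^ (a + b).val = π (g i) ^ a.val * π (g i) ^ b.val := fun i a b => by
    rw [← pow_add, ← Nat.mod_add_div (a.val + b.val) 2, pow_add, pow_mul, pow_two, ← map_mul, D.sq, hπ,
      one_pow, mul_one, ZMod.val_add]
  simp only [ev, map_mul, map_pow, Pi.add_apply, hp]
  have h := fun i j (n m : ℕ) => (hc i j).pow_pow n m
  rw [(h 0 1 (f 0).val (e 1).val).mul_mul_mul_comm,
    ((h 0 2 (f 0).val (e 2).val).mul_left (h 1 2 (f 1).val (e 2).val)).mul_mul_mul_comm,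
    (((h 0 3 (f 0).val (e 3).val).mul_left (h 1 3 (f 1).val (e 3).val)).mul_left
      (h 2 3 (f 2).val (e 3).val)).mul_mul_mul_comm]

theorem map_ev_smul {Q : Type*} [Group Q] (π : T →* Q) (hπ : ∀ p, π (c p) = 1) (n : ZMod 2) (e : E4) :
    π (ev g (n • e)) = π (ev g e) ^ n.val := by
  obtain rfl | rfl : n = 0 ∨ n = 1 := by decide +revert
  · simp [ev]
  · rw [show ((1 : ZMod 2)).val = 1 from rfl, pow_one, one_smul]

theorem ev_single (k : Fin 4) : ev g (Pi.single k 1) = g k := by
  fin_cases k <;> simp [ev, Pi.single_apply, show ((1 : ZMod 2)).val = 1 from rfl]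

end Dict

end Cfsg.Agent.RankTwo
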