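import Cfsg.Agent.Lib.RankTwo.SelfCentralizing

/-!
Abelian `2`-groups with three involutions permuted cyclically by an automorphism.
-/

set_option autoImplicit false
set_option linter.unusedSectionVars false

namespace Cfsg.Agent.RankTwo

namespace Setting

variable {T : Type*} [Group T] [Finite T] {α : MulAut T} {V : Subgroup T} (S : Setting α V)
include S

theorem homocyclic (hT : ∀ x y : T, x * y = y * x) :
    ∃ n : ℕ, 1 ≤ n ∧ Nonempty (T ≃* Multiplicative (ZMod (2 ^ n) × ZMod (2 ^ n))) := by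
  classical
  letI : CommGroup T := { ‹Group T› with mul_comm := hT }
  have hex : ∃ n, ∀ a : T, a ^ 2 ^ n = 1 := by
    obtain ⟨N, hN⟩ := IsPGroup.iff_card.1 S.pgroup
    exact ⟨N, fun a => by rw [← hN]; exact pow_card_eq_one'⟩
  set n := Nat.find hex with hn
  have hexp : ∀ a : T, a ^ 2 ^ n = 1 := Nat.find_spec hex
  have hn1 : 1 ≤ n := by
    by_contra h
    have h0 : n = 0 := by omega
    haveI : Subsingleton T := ⟨fun a b => by
      rw [← pow_one a, ← pow_one b, ← pow_zero 2, ← h0, hexp, hexp]⟩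
    have := Nat.card_of_subsingleton (1 : V)
    rw [S.card] at this
    omega
  obtain ⟨x, hx⟩ : ∃ x : T, x ^ 2 ^ (n - 1) ≠ 1 := by
    have := Nat.find_min hex (show n - 1 < n by omega)
    push Not at this
    exact this
  haveI : NeZero (2 ^ n) := ⟨by positivity⟩
  haveI : Fact (Nat.Prime 2) := ⟨Nat.prime_two⟩
  have hmod : ∀ (a : T) (i j : ZMod (2 ^ n)), a ^ (i + j).val = a ^ i.val * a ^ j.val := fun a i j => by
    rw [← pow_add, ← Nat.mod_add_div (i.val + j.val) (2 ^ n), pow_add, pow_mul, hexp, one_pow, mul_one,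
      ZMod.val_add]
  let f : Multiplicative (ZMod (2 ^ n) × ZMod (2 ^ n)) →* T :=
    { toFun := fun p => x ^ p.toAdd.1.val * (α x) ^ p.toAdd.2.val
      map_one' := by simp
      map_mul' := fun p q => by
        simp only [toAdd_mul, Prod.fst_add, Prod.snd_add, hmod]
        exact mul_mul_mul_comm _ _ _ _ }
  set z := x ^ 2 ^ (n - 1) with hz
  have hzV : z ∈ V := (S.mem z).2 (by
    rw [hz, ← pow_add, ← two_mul, ← pow_succ', Nat.sub_add_cancel hn1]; exact hexp x)
  have hhalf : ∀ i : ZMod (2 ^ n), i + i = 0 → x ^ i.val = 1 ∧ i = 0 ∨ x ^ i.val = z ∧ i.val = 2 ^ (n - 1) := by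
    intro i hi
    have h := congrArg ZMod.val hi
    rw [ZMod.val_add, ZMod.val_zero] at h
    have hlt := ZMod.val_lt i
    have h2 : 2 ^ n = 2 ^ (n - 1) * 2 := by rw [← pow_succ, Nat.sub_add_cancel hn1]
    obtain ⟨m, hm⟩ := Nat.dvd_of_mod_eq_zero h
    have hm2 : m < 2 := by
      by_contra hc
      have := Nat.mul_le_mul_left (2 ^ n) (show 2 ≤ m by omega)
      omega
    interval_cases m
    · left
      have h0 : i.val = 0 := by omega
      exact ⟨by rw [h0, pow_zero], (ZMod.val_eq_zero i).1 h0⟩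
    · right
      have h0 : i.val = 2 ^ (n - 1) := by omega
      exact ⟨by rw [h0], h0⟩
  have hinj : Function.Injective f := by
    rw [← MonoidHom.ker_eq_bot_iff]
    by_contra hne
    haveI : Nontrivial f.ker := (Subgroup.nontrivial_iff_ne_bot _).2 hne
    have h2 : IsPGroup 2 (Multiplicative (ZMod (2 ^ n) × ZMod (2 ^ n))) := IsPGroup.of_card (n := 2 * n) (by
      rw [Nat.card_congr Multiplicative.toAdd, Nat.card_prod, Nat.card_zmod, ← pow_add, two_mul])
    obtain ⟨k, hk, hkc⟩ := IsPGroup.nontrivial_iff_card (h2.to_subgroup f.ker) |>.1 inferInstance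
    obtain ⟨p, hp⟩ := exists_prime_orderOf_dvd_card' (G := f.ker) 2 (hkc ▸ dvd_pow_self 2 hk.ne')
    set q := (p : Multiplicative (ZMod (2 ^ n) × ZMod (2 ^ n))).toAdd with hq
    have hp2 : p ^ 2 = 1 := by
      have h := pow_orderOf_eq_one p
      rwa [hp] at h
    have hq2 : q + q = 0 := by
      have := congrArg (fun r : f.ker => (r : Multiplicative (ZMod (2 ^ n) × ZMod (2 ^ n))).toAdd)
        hp2
      simpa [pow_two] using this
    have hf1 : x ^ q.1.val * (α x) ^ q.2.val = 1 := p.2
    rw [← map_pow] at hf1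
    have hp1 : q ≠ 0 := fun h => by
      have : p = 1 := Subtype.ext (Multiplicative.toAdd.injective h)
      rw [this, orderOf_one] at hp
      omega
    rcases hhalf q.1 (congrArg Prod.fst hq2) with ⟨e1, i1⟩ | ⟨e1, i1⟩ <;>
      rcases hhalf q.2 (congrArg Prod.snd hq2) with ⟨e2, i2⟩ | ⟨e2, i2⟩
    · exact hp1 (Prod.ext i1 i2)
    · rw [e1, e2, one_mul] at hf1
      exact S.map_ne_one hx hf1
    · rw [e1, e2, map_one, mul_one] at hf1
      exact hx hf1
    · rw [e1, e2] at hf1
      exact hx (S.fix z ((inv_eq_of_mul_eq_one_right hf1).symm.trans (S.inv_eq hzV)))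
  have hcard : ∀ m : ℕ, Nat.card T ≤ 4 ^ m * Nat.card (powMonoidHom (α := T) (2 ^ m)).range := by
    intro m
    induction m with
    | zero =>
      simp only [pow_zero, one_mul]
      exact Nat.card_le_card_of_injective (fun a => ⟨a, ⟨a, pow_one a⟩⟩) fun a b h => congrArg Subtype.val h
    | succ m ih =>
      refine ih.trans ?_
      rw [pow_succ, mul_assoc]
      refine Nat.mul_le_mul_left _ ?_
      let ψ := (powMonoidHom (α := T) 2).comp (powMonoidHom (α := T) (2 ^ m)).range.subtype
      have h1 := Subgroup.card_eq_card_quotient_mul_card_subgroup ψ.ker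
      rw [Nat.card_congr (QuotientGroup.quotientKerEquivRange ψ).toEquiv] at h1
      have h2 : Nat.card ψ.ker ≤ 4 := by
        rw [← S.card]
        refine Nat.card_le_card_of_injective
          (fun k => (⟨((k : (powMonoidHom (α := T) (2 ^ m)).range) : T), (S.mem _).2 ?_⟩ : V))
          fun k k' h => Subtype.ext (Subtype.ext (congrArg (fun w : V => (w : T)) h))
        rw [← pow_two]
        exact k.2
      have h3 : ψ.range ≤ (powMonoidHom (α := T) (2 ^ (m + 1))).range := by
        rintro _ ⟨⟨_, a, rfl⟩, rfl⟩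
        exact ⟨a, by simp [ψ, pow_succ, pow_mul]⟩
      rw [h1, mul_comm]
      exact Nat.mul_le_mul h2 (Subgroup.card_le_of_le h3)
  refine ⟨n, hn1, ⟨(MulEquiv.ofBijective f ((Nat.bijective_iff_injective_and_card f).2 ⟨hinj, ?_⟩)).symm⟩⟩
  refine le_antisymm (Nat.card_le_card_of_injective f hinj) ?_
  have h := hcard n
  have h1 : Nat.card (powMonoidHom (α := T) (2 ^ n)).range = 1 := by
    rw [Subgroup.card_eq_one, eq_bot_iff]
    rintro _ ⟨a, rfl⟩
    exact hexp a
  rw [h1, mul_one] at h
  rw [Nat.card_congr Multiplicative.toAdd, Nat.card_prod, Nat.card_zmod, ← mul_pow]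
  exact h

end Setting

end Cfsg.Agent.RankTwo
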