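import Cfsg.Agent.Lib.RankTwo.Relations
import Cfsg.Agent.Lib.O320.Unitary
import Cfsg.Agent.Lib.AutPSU.Centre

/-!
A Sylow `2`-subgroup of `PSU(3,4)` in the four-generator form.
-/

set_option autoImplicit false
set_option linter.style.haveILetI false

namespace Cfsg.Agent.RankTwo

open Cfsg.Agent

/-- A group of order `64` with the relations is isomorphic to a Sylow `2`-subgroup of `PSU(3,4)`. -/
theorem equiv_sylow {T : Type*} [Group T] [Finite T] {x : ℕ → T} {z a : T} (h : Rel4 x z a)
    (hgen : gen4 x = ⊤) (hT : Nat.card T = 64) {F : Type*} [Field F] [Fintype F] (hF : Fintype.card F = 16)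
    (P : Sylow 2 (Cfsg.PSU 3 F 4)) : Nonempty (T ≃* (P : Subgroup (Cfsg.PSU 3 F 4))) := by
  classical
  haveI : Fact (Nat.Prime 2) := ⟨Nat.prime_two⟩
  haveI : AutPSU.QField F 4 := AutPSU.QField.of_card (by rw [hF]; norm_num)
  obtain ⟨t, y, d, w, b, -, hrel, hcl, hcard⟩ := O320.exists_model hF
  obtain ⟨hr4, hc4⟩ := card_gen_of_rel hrel hcl hcard
  have hcen : Subgroup.center (Cfsg.SU 3 F 4) = ⊥ := by
    rw [← Subgroup.card_eq_one, AutPSU.card_center_SU (by norm_num)]
    norm_num
  let π : Cfsg.SU 3 F 4 ≃* Cfsg.PSU 3 F 4 := MulEquiv.ofBijective (QuotientGroup.mk' _)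
    ⟨by rw [← MonoidHom.ker_eq_bot_iff, QuotientGroup.ker_mk', hcen], QuotientGroup.mk'_surjective _⟩
  have hSU : Nat.card (Cfsg.SU 3 F 4) = 64 * 975 := by
    have hF' : Fintype.card F = 4 ^ 2 := by rw [hF]; norm_num
    have h1 := UnitaryOrder.card_SU hF' 3 (by norm_num)
    rw [UnitaryOrder.card_GU hF' 3, Finset.prod_range_succ, Finset.prod_range_succ, Finset.prod_range_one] at h1
    simp only [show Even 0 from ⟨0, rfl⟩, show ¬ Even 1 by decide, show Even 2 from ⟨1, rfl⟩, if_true, if_false] at h1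
    norm_num at h1 ⊢
    omega
  set K := gen4 y
  let ι : K →* Cfsg.PSU 3 F 4 := π.toMonoidHom.comp ((Subgroup.centralizer _).subtype.comp K.subtype)
  have hι : Function.Injective ι :=
    π.injective.comp (Subtype.val_injective.comp Subtype.val_injective)
  have hRK : Nat.card ι.range = 64 := by rw [← hc4]; exact (Nat.card_congr (MonoidHom.ofInjective hι).toEquiv).symm
  obtain ⟨S, hS⟩ := (IsPGroup.of_card (p := 2) (n := 6) (by rw [hRK]; norm_num) : IsPGroup 2 ι.range).exists_le_sylow
  have hSeq : ι.range = (S : Subgroup (Cfsg.PSU 3 F 4)) := by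
    refine Subgroup.eq_of_le_of_card_ge hS ?_
    rw [hRK, S.card_eq_multiplicity, ← Nat.card_congr π.toEquiv, hSU,
      Nat.factorization_mul (by norm_num) (by norm_num), Finsupp.add_apply,
      Nat.factorization_eq_zero_of_not_dvd (by norm_num : ¬ 2 ∣ 975), show (64 : ℕ) = 2 ^ 6 by norm_num,
      Nat.prime_two.factorization_pow, Finsupp.single_eq_same]
  obtain ⟨e2⟩ : Nonempty (↥K ≃* (P : Subgroup (Cfsg.PSU 3 F 4))) :=
    ⟨(MonoidHom.ofInjective hι).trans ((MulEquiv.subgroupCongr hSeq).trans (Sylow.equiv S P))⟩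
  -- the model
  have hmem : ∀ i < 4, y i ∈ K := fun i hi => Subgroup.subset_closure ⟨i, hi, rfl⟩
  let y' : ℕ → K := fun i => if hi : i < 4 then ⟨y i, hmem i hi⟩ else 1
  have hy' : ∀ i < 4, (y' i : Subgroup.centralizer ({t} : Set (Cfsg.SU 3 F 4))) = y i := fun i hi => by simp [y', hi]
  have hwK : w ∈ K := by rw [← hr4.sq 0 (by norm_num)]; exact mul_mem (hmem 0 (by norm_num)) (hmem 0 (by norm_num))
  have hbK : b ∈ K := by
    have e := hr4.comm 0 (by norm_num) 1 (by norm_num) (by norm_num)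
    rw [if_pos rfl] at e
    have : b = (y 1 * y 0)⁻¹ * (y 0 * y 1) := by rw [e]; group
    rw [this]
    exact mul_mem (inv_mem (mul_mem (hmem 1 (by norm_num)) (hmem 0 (by norm_num))))
      (mul_mem (hmem 0 (by norm_num)) (hmem 1 (by norm_num)))
  have hr' : Rel4 y' (⟨w, hwK⟩ : K) ⟨b, hbK⟩ :=
    { za := Subtype.ext hr4.za
      zx := fun i hi => Subtype.ext (by simpa [hy' i hi] using (hr4.zx i hi).eq)
      ax := fun i hi => Subtype.ext (by simpa [hy' i hi] using (hr4.ax i hi).eq)
      z2 := Subtype.ext hr4.z2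
      a2 := Subtype.ext hr4.a2
      sq := fun i hi => Subtype.ext (by simpa [hy' i hi] using hr4.sq i hi)
      comm := fun i hi j hj hij => Subtype.ext (by
        have e := hr4.comm i hi j hj hij
        simpa [hy' i hi, hy' j hj, apply_ite Subtype.val] using e) }
  have htop : gen4 y' = ⊤ := by
    apply Subgroup.map_injective K.subtype_injective
    rw [← MonoidHom.range_eq_map, Subgroup.range_subtype, MonoidHom.map_closure]
    show Subgroup.closure _ = Subgroup.closure _
    congr 1
    rw [Set.image_image]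
    exact Set.image_congr fun i hi => hy' i hi
  obtain ⟨e1⟩ := h.mulEquiv hr' hgen htop hT hc4
  exact ⟨e1.trans e2⟩

end Cfsg.Agent.RankTwo
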