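import Cfsg.Agent.Lib.RankTwo.Structure
import Cfsg.Agent.Lib.RankTwo.Forms
import Cfsg.Agent.Lib.RankTwo.UnitaryModel

/-!
The groups of order `64` with three involutions permuted by an automorphism of `3`-power order.
-/

set_option autoImplicit false
set_option linter.unusedSectionVars false

namespace Cfsg.Agent.RankTwo

open Cfsg

namespace Core

variable {T : Type*} [Group T] [Finite T] {α : MulAut T} {V A : Subgroup T} (C : Core α V A)
include C

variable [A.Normal]

/-- A proper self-centralizing subgroup only occurs in the unitary case. -/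
theorem unitary_case (hne : ∃ t, t ∉ A) {F : Type*} [Field F] [Fintype F] (hF : Fintype.card F = 16)
    (P : Sylow 2 (PSU 3 F 4)) : Nonempty (T ≃* (P : Subgroup (PSU 3 F 4))) := by
  classical
  obtain ⟨hW, hU⟩ := C.exp_four hne
  have hUm : ∀ t : T, t ∈ omegaMod A (⊤ : Subgroup T) := fun t => by rw [hU]; exact Subgroup.mem_top t
  have hfV : ∀ (t : T) {a : T}, a ∈ A → hf t a ∈ V := fun t a ha => C.hf_mem_V (hUm t) ha
  obtain ⟨x, hx, hxW⟩ := C.exists_not_square
  set y := α x with hy
  have hyA : y ∈ A := C.inv x hx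
  set v0 := x * x with hv0
  have hv0V : v0 ∈ V := (hW _).1 (mem_squares.2 ⟨x, hx, rfl⟩)
  have hv01 : v0 ≠ 1 := fun h => hxW ((hW _).2 ((C.mem x).2 h))
  set v1 := α v0 with hv1
  have hv1V : v1 ∈ V := C.map_mem hv0V
  have hv11 : v1 ≠ 1 := C.map_ne_one hv01
  have hv0ne : v0 ≠ v1 := fun h => hv01 (C.fix _ h.symm)
  have hc01 : Commute v0 v1 := (C.central v0 hv0V v1).symm
  have hαv1 : α v1 = v0 * v1 := C.alpha_sq hv0V
  -- an element inducing `v0` on `x`
  obtain ⟨u, hux⟩ : ∃ u : T, hf u x = v0 := by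
    obtain ⟨u0, hu0⟩ := hne
    have hp := hfV u0 hx
    have hp1 : hf u0 x ≠ 1 := fun h => hu0 (C.mem_of_hf_eq_one (hUm u0) hx hxW h)
    rcases C.four hp (C.map_mem hp) hp1 (C.map_ne_one hp1) (fun h => hp1 (C.fix _ h.symm)) hv0V with
      h | h | h | h
    · exact absurd h hv01
    · exact ⟨u0, h.symm⟩
    · refine ⟨α (α u0), ?_⟩
      rw [C.hf_map_fst (hUm _) hx hxW, C.hf_map_fst (hUm _) hx hxW, h, C.alpha_cube hp]
    · refine ⟨α u0, ?_⟩
      rw [C.hf_map_fst (hUm _) hx hxW, C.alpha_sq hp, ← h]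
  have huA : u ∉ A := fun h => hv01 (hux ▸ C.hf_of_mem h hx)
  set t := α u with ht
  have huy : hf u y = v0 * v1 := by rw [hy, C.hf_alpha (hUm u) hx hxW, hux]; exact hαv1
  have htx : hf t x = v0 * v1 := by rw [ht, C.hf_map_fst (hUm u) hx hxW, hux]; exact hαv1
  have hty : hf t y = v1 := by rw [ht, hy, ← map_hf, hux]
  have hsV : u * u ∈ V := by
    refine (hW _).1 (by_contra fun h => huA (C.mem_of_hf_eq_one (hUm u) (hUm u).2.1 h ?_))
    simp only [hf]; group
  have hwV : u * t * u⁻¹ * t⁻¹ ∈ V := by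
    set w := u * t * u⁻¹ * t⁻¹ with hw
    have hwA : w ∈ A := (hUm t).2.2 u
    have e1 : hf u w * (w * w) = 1 := by
      rw [show hf u w * (w * w) = (u * u) * t * (u * u)⁻¹ * t⁻¹ by simp only [hf, hw]; group,
        show u * u * t = t * (u * u) from (C.central _ hsV t).symm]
      group
    have htV : t * t ∈ V := by rw [ht, ← map_mul]; exact C.map_mem hsV
    have e2 : (w * w) * hf t w = 1 := by
      rw [show (w * w) * hf t w = w * (w * t * w * t⁻¹ * w⁻¹) by simp only [hf]; group,
        show w * t * w * t⁻¹ = u * (t * t) * u⁻¹ * (t * t)⁻¹ by rw [hw]; group, C.central _ htV u]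
      group
    have e3 : hf (u * t) w = 1 := by
      rw [C.hf_add hwA (hfV u hwA) (hfV t hwA), eq_inv_of_mul_eq_one_left e1,
        ← eq_inv_of_mul_eq_one_right e2, (C.mem _).1 (hfV t hwA)]
    refine (hW _).1 (by_contra fun h => ?_)
    have h4 := C.hf_of_mem (C.mem_of_hf_eq_one (hUm (u * t)) hwA h e3) hx
    rw [C.hf_add hx (hfV u hx) (hfV t hx), hux, htx, ← mul_assoc, (C.mem _).1 hv0V, one_mul] at h4
    exact hv11 h4
  -- coordinates of the centre
  let c : V2 → T := fun p => v0 ^ p.1.val * v1 ^ p.2.val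
  have hz2 : ∀ z : ZMod 2, z = 0 ∨ z = 1 := by decide
  have hpow : ∀ {v : T}, v ∈ V → ∀ a b : ZMod 2, v ^ (a + b).val = v ^ a.val * v ^ b.val := fun {v} hv a b => by
    rw [← pow_add, ← Nat.mod_add_div (a.val + b.val) 2, pow_add, pow_mul, pow_two, (C.mem v).1 hv,
      one_pow, mul_one, ZMod.val_add]
  have hcadd : ∀ p q, c (p + q) = c p * c q := fun p q => by
    simp only [c, Prod.fst_add, Prod.snd_add, hpow hv0V, hpow hv1V]
    exact (hc01.pow_pow _ _).mul_mul_mul_comm _ _
  have hcV : ∀ p, c p ∈ V := fun p => mul_mem (pow_mem hv0V _) (pow_mem hv1V _)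
  have hone : ((1 : ZMod 2)).val = 1 := rfl
  have hc10 : c (1, 0) = v0 := by simp [c, hone]
  have hc01' : c (0, 1) = v1 := by simp [c, hone]
  have hc11 : c (1, 1) = v0 * v1 := by simp [c, hone]
  have hc00 : c 0 = 1 := by simp [c]
  have hsurj : ∀ v ∈ V, ∃ p, c p = v := fun v hv => by
    rcases C.four hv0V hv1V hv01 hv11 hv0ne hv with rfl | rfl | rfl | rfl
    exacts [⟨_, hc00⟩, ⟨_, hc10⟩, ⟨_, hc01'⟩, ⟨_, hc11⟩]
  have hcinj : ∀ p, c p = 1 → p = 0 := by
    rintro ⟨a, b⟩ h
    rcases hz2 a with rfl | rfl <;> rcases hz2 b with rfl | rfl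
    · rfl
    · exact absurd (hc01'.symm.trans h) hv11
    · exact absurd (hc10.symm.trans h) hv01
    · exact absurd (eq_inv_of_mul_eq_one_right (hc11.symm.trans h))
        (by rw [C.inv_eq hv0V]; exact hv0ne.symm)
  obtain ⟨s, hs⟩ := hsurj _ hsV
  obtain ⟨w, hw⟩ := hsurj _ hwV
  let g : Fin 4 → T := ![x, y, u, t]
  have hcomm_flip : ∀ {a b : T} {p : V2}, a * b = c p * (b * a) → b * a = c p * (a * b) := fun {a b p} h => by
    rw [h, ← mul_assoc, ← hcadd, show p + p = 0 by rw [← two_nsmul]; exact ZModModule.char_nsmul_eq_zero 2 p,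
      hc00, one_mul]
  have hk : ∀ {a b : T}, a * b = hf a b * (b * a) := fun {a b} => by simp only [hf]; group
  have k20 : u * x = c (1, 0) * (x * u) := by rw [hk, hux, hc10]
  have k21 : u * y = c (1, 1) * (y * u) := by rw [hk, huy, hc11]
  have k30 : t * x = c (1, 1) * (x * t) := by rw [hk, htx, hc11]
  have k31 : t * y = c (0, 1) * (y * t) := by rw [hk, hty, hc01']
  have k23 : u * t = c w * (t * u) := by rw [hk, hw]
  have D : Dict c g s w :=
    { add := hcadd
      central := fun p z => C.central _ (hcV p) z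
      sq := fun i => by
        fin_cases i
        · exact hc10.symm
        · show α x * α x = c (0, 1)
          rw [← map_mul, hc01']
        · exact hs.symm
        · show α u * α u = c (s.2, s.1 + s.2)
          rw [← map_mul, ← hs]
          simp only [c, map_mul, map_pow, hαv1, ← hv1, hc01.mul_pow, hpow hv1V]
          rw [← mul_assoc, (hc01.symm.pow_pow s.1.val s.2.val).eq, mul_assoc]
      comm := fun i j => by
        fin_cases i <;> fin_cases j <;> simp [g, kform, hc00] <;>
          first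
            | exact C.comm x hx y hyA
            | exact C.comm y hyA x hx
            | exact k20
            | exact k21
            | exact k30
            | exact k31
            | exact k23
            | exact hcomm_flip k20
            | exact hcomm_flip k21
            | exact hcomm_flip k30
            | exact hcomm_flip k31
            | exact hcomm_flip k23 }
  rcases good_or_bad s w with hgood | ⟨e, he, hek⟩
  swap
  · have h1 := D.ev_sq e
    rw [he, hc00] at h1
    have h2 := D.ev_comm e (Pi.single 0 1)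
    rw [C.central _ ((C.mem _).2 h1) (ev g (Pi.single 0 1)), eq_comm, mul_eq_right] at h2
    exact absurd (hcinj _ h2) hek
  obtain ⟨hq, hb, hspan⟩ := hgood
  let xw : ℕ → T := fun i => ev g (words s w ⟨i % 4, Nat.mod_lt _ (by norm_num)⟩)
  have hR : Rel4 xw v0 v1 :=
    { za := hc01
      zx := fun i _ => (C.central _ hv0V _).symm
      ax := fun i _ => (C.central _ hv1V _).symm
      z2 := (C.mem _).1 hv0V
      a2 := (C.mem _).1 hv1V
      sq := fun i _ => (D.ev_sq _).trans (by rw [hq, hc10])
      comm := fun i hi j hj hij => by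
        have h := D.ev_comm (words s w ⟨i % 4, Nat.mod_lt _ (by norm_num)⟩)
          (words s w ⟨j % 4, Nat.mod_lt _ (by norm_num)⟩)
        rw [hb _ _ (by
          show i % 4 < j % 4
          rw [Nat.mod_eq_of_lt hi, Nat.mod_eq_of_lt hj]; exact hij)] at h
        simp only [Nat.mod_eq_of_lt hi, Nat.mod_eq_of_lt hj] at h
        rw [show xw i * xw j = _ from (by simp only [xw, Nat.mod_eq_of_lt hi, Nat.mod_eq_of_lt hj]; exact h)]
        have hcc : ∀ p, c p * (xw j * xw i) = xw j * xw i * c p := fun p => (C.central _ (hcV p) _).symm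
        simp only [xw, Nat.mod_eq_of_lt hi, Nat.mod_eq_of_lt hj] at hcc ⊢
        rw [hcc]
        congr 1
        split_ifs <;> first | exact hc01' | rw [hc11, hc01.eq] }
  -- the words generate
  haveI : V.Normal := ⟨fun v hv z => by rw [C.central v hv z, mul_inv_cancel_right]; exact hv⟩
  have hgen : gen4 xw = ⊤ := by
    set G := gen4 xw with hG
    have hxw : ∀ i : Fin 4, ev g (words s w i) ∈ G := fun i => by
      refine Subgroup.subset_closure ⟨i, i.2, ?_⟩
      simp only [xw, Nat.mod_eq_of_lt i.2]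
    have hv0G : v0 ∈ G := by
      have h := G.mul_mem (hxw 0) (hxw 0)
      rwa [D.ev_sq, hq, hc10] at h
    have hv1G : v1 ∈ G := by
      have h := D.ev_comm (words s w 0) (words s w 1)
      rw [hb 0 1 (by decide), if_pos (show ((1 : Fin 4) : ℕ) = ((0 : Fin 4) : ℕ) + 1 from rfl), hc01', ← mul_inv_eq_iff_eq_mul] at h
      exact h ▸ G.mul_mem (G.mul_mem (hxw 0) (hxw 1)) (G.inv_mem (G.mul_mem (hxw 1) (hxw 0)))
    have hVG : V ≤ G := fun v hv => by
      rcases C.four hv0V hv1V hv01 hv11 hv0ne hv with rfl | rfl | rfl | rfl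
      exacts [G.one_mem, hv0G, hv1G, G.mul_mem hv0G hv1G]
    have hgenG : ∀ k, g k ∈ G := fun k => by
      obtain ⟨l, hl⟩ := hspan k
      let π := QuotientGroup.mk' V
      have hπ : ∀ p, π (c p) = 1 := fun p => (QuotientGroup.eq_one_iff _).2 (hcV p)
      have h1 : π (ev g (Pi.single k 1)) ∈ G.map π := by
        rw [← hl]
        simp only [D.map_ev_add π hπ, D.map_ev_smul π hπ]
        exact mul_mem (mul_mem (mul_mem (pow_mem (Subgroup.mem_map_of_mem π (hxw 0)) _)
          (pow_mem (Subgroup.mem_map_of_mem π (hxw 1)) _)) (pow_mem (Subgroup.mem_map_of_mem π (hxw 2)) _))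
          (pow_mem (Subgroup.mem_map_of_mem π (hxw 3)) _)
      rw [D.ev_single] at h1
      obtain ⟨z, hzG, hz⟩ := Subgroup.mem_map.1 h1
      simpa using G.mul_mem hzG (hVG (QuotientGroup.eq.1 hz))
    have hxG : x ∈ G := hgenG 0
    have hyG : y ∈ G := hgenG 1
    have huG : u ∈ G := hgenG 2
    have htG : t ∈ G := hgenG 3
    have hAG : A ≤ G := fun a ha => by
      rcases (C.classes C.le C.inv hx hxW).1 a ha with h | h | h | h
      · exact hVG ((hW _).1 h)
      · simpa using G.mul_mem hxG (hVG ((hW _).1 h))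
      · simpa [← hy] using G.mul_mem hyG (hVG ((hW _).1 h))
      · simpa [← hy, mul_assoc] using G.mul_mem (G.mul_mem hxG hyG) (hVG ((hW _).1 h))
    refine eq_top_iff.2 fun z _ => ?_
    have key : ∀ r : T, hf r x = hf z x → r ∈ G → z ∈ G := fun r hr hrG => by
      have h : r⁻¹ * z ∈ A := by
        refine C.mem_of_hf_eq_one (hUm _) hx hxW ?_
        rw [C.hf_add hx (hfV _ hx) (hfV _ hx), C.hf_inv hx (hfV r hx) (hfV _ hx), hr]
        exact (C.mem _).1 (hfV z hx)
      simpa using G.mul_mem hrG (hAG h)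
    rcases C.four hv0V hv1V hv01 hv11 hv0ne (hfV z hx) with h | h | h | h
    · exact key 1 (by rw [h, C.hf_of_mem A.one_mem hx]) G.one_mem
    · exact key u (hux.trans h.symm) huG
    · exact key (u * t) (by
        rw [C.hf_add hx (hfV u hx) (hfV t hx), hux, htx, h, ← mul_assoc, (C.mem _).1 hv0V, one_mul])
        (G.mul_mem huG htG)
    · exact key t (htx.trans h.symm) htG
  -- order `64`
  have hVcard := C.card
  have hA16 : Nat.card A = 16 := by
    have h1 := Subgroup.card_eq_card_quotient_mul_card_subgroup (sqHom C.comm).ker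
    rw [Nat.card_congr (QuotientGroup.quotientKerEquivRange (sqHom C.comm)).toEquiv] at h1
    have h2 : Nat.card (sqHom C.comm).range = 4 :=
      (Nat.card_congr (Equiv.subtypeEquivRight fun z => hW z)).trans hVcard
    have h3 : Nat.card (sqHom C.comm).ker = 4 := by
      rw [← hVcard]
      exact Nat.card_congr
        { toFun := fun k => ⟨((k : A) : T), (C.mem _).2 k.2⟩
          invFun := fun v => ⟨⟨v, C.le v.2⟩, (C.mem _).1 v.2⟩
          left_inv := fun k => rfl
          right_inv := fun v => rfl }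
    rw [h1, h2, h3]
  have hT64 : Nat.card T = 64 := by
    let φ : T →* V :=
      { toFun := fun r => ⟨hf r x, hfV r hx⟩
        map_one' := Subtype.ext (C.hf_of_mem A.one_mem hx)
        map_mul' := fun r r' => Subtype.ext (C.hf_add hx (hfV r hx) (hfV r' hx)) }
    have hker : φ.ker = A := by
      ext r
      exact ⟨fun h => C.mem_of_hf_eq_one (hUm r) hx hxW (congrArg Subtype.val h),
        fun h => Subtype.ext (C.hf_of_mem h hx)⟩
    have hφ : Function.Surjective φ := fun v => by
      rcases C.four hv0V hv1V hv01 hv11 hv0ne v.2 with h | h | h | h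
      · exact ⟨1, Subtype.ext ((C.hf_of_mem A.one_mem hx).trans h.symm)⟩
      · exact ⟨u, Subtype.ext (hux.trans h.symm)⟩
      · refine ⟨u * t, Subtype.ext ?_⟩
        show hf (u * t) x = _
        rw [C.hf_add hx (hfV u hx) (hfV t hx), hux, htx, h, ← mul_assoc, (C.mem _).1 hv0V, one_mul]
      · exact ⟨t, Subtype.ext (htx.trans h.symm)⟩
    have h1 := Subgroup.card_eq_card_quotient_mul_card_subgroup φ.ker
    rw [Nat.card_congr (QuotientGroup.quotientKerEquivOfSurjective φ hφ).toEquiv, hker, hA16, hVcard] at h1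
    exact h1
  exact equiv_sylow hR hgen hT64 hF P

end Core

end Cfsg.Agent.RankTwo
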