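import Cfsg.Agent.Lib.O320.Rel

/-!
The group `2^(2+4)` given by four generators with squares and commutators, as found in `PSU(3,4)`.
-/

set_option autoImplicit false

namespace Cfsg.Agent.RankTwo

open O320 (card_sup_zpowers_le mem_normalizer_of_map_le mem_normalizer_zpowers_of_commute mem_normalizer_sup)

/-- Four elements with common square `z` whose commutators are `a` or `a z`. -/
structure Rel4 {G : Type*} [Group G] (x : ℕ → G) (z a : G) : Prop where
  za : Commute z a
  zx : ∀ i < 4, Commute z (x i)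
  ax : ∀ i < 4, Commute a (x i)
  z2 : z * z = 1
  a2 : a * a = 1
  sq : ∀ i < 4, x i * x i = z
  comm : ∀ i < 4, ∀ j < 4, i < j → x i * x j = x j * x i * (if j = i + 1 then a else a * z)

/-- The generated subgroup. -/
abbrev gen4 {G : Type*} [Group G] (x : ℕ → G) : Subgroup G := Subgroup.closure (x '' Set.Iio 4)

theorem Rel4.prod {G H : Type*} [Group G] [Group H] {x : ℕ → G} {z a : G} {y : ℕ → H} {w b : H}
    (h : Rel4 x z a) (h' : Rel4 y w b) : Rel4 (fun i => (x i, y i)) (z, w) (a, b) where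
  za := Prod.ext h.za h'.za
  zx i hi := Prod.ext (h.zx i hi) (h'.zx i hi)
  ax i hi := Prod.ext (h.ax i hi) (h'.ax i hi)
  z2 := Prod.ext h.z2 h'.z2
  a2 := Prod.ext h.a2 h'.a2
  sq i hi := Prod.ext (h.sq i hi) (h'.sq i hi)
  comm i hi j hj hij := by
    have h1 := h.comm i hi j hj hij
    have h2 := h'.comm i hi j hj hij
    split_ifs with hh <;> simp_all

variable {G : Type*} [Group G] [Finite G]

/-- The generated subgroup has at most `64` elements. -/
theorem Rel4.card_gen_le {x : ℕ → G} {z a : G} (h : Rel4 x z a) : Nat.card (gen4 x) ≤ 64 := by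
  set A1 := Subgroup.zpowers z ⊔ Subgroup.zpowers a with hA1
  set B0 := A1 ⊔ Subgroup.zpowers (x 0) with hB0
  set B1 := B0 ⊔ Subgroup.zpowers (x 1) with hB1
  set B2 := B1 ⊔ Subgroup.zpowers (x 2) with hB2
  set B3 := B2 ⊔ Subgroup.zpowers (x 3) with hB3
  have hzA : z ∈ A1 := Subgroup.mem_sup_left (Subgroup.mem_zpowers z)
  have haA : a ∈ A1 := Subgroup.mem_sup_right (Subgroup.mem_zpowers a)
  have hk : ∀ i j : ℕ, (if j = i + 1 then a else a * z) ∈ A1 := fun i j => by
    split_ifs
    · exact haA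
    · exact A1.mul_mem haA hzA
  have hA1n : ∀ g : G, Commute z g → Commute a g → g ∈ Subgroup.normalizer (A1 : Set G) :=
    fun g hz ha => mem_normalizer_sup (mem_normalizer_zpowers_of_commute hz) (by
      rw [← ha.eq, mul_inv_cancel_right]; exact haA)
  have hconj : ∀ i < 4, ∀ j < 4, i < j →
      x j * x i * (x j)⁻¹ = x i * (if j = i + 1 then a else a * z) := by
    intro i hi j hj hij
    have e := h.comm i hi j hj hij
    set k := (if j = i + 1 then a else a * z) with hkdef
    have hkj : Commute k (x j) := by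
      rw [hkdef]; split_ifs
      · exact h.ax j hj
      · exact (h.ax j hj).mul_left (h.zx j hj)
    have hk2 : k * k = 1 := by
      rw [hkdef]; split_ifs
      · exact h.a2
      · rw [show a * z * (a * z) = a * (z * a) * z by group, h.za.eq,
          show a * (a * z) * z = a * a * (z * z) by group, h.a2, h.z2, one_mul]
    have e' : x j * x i = x i * x j * k := by rw [e, mul_assoc, hk2, mul_one]
    rw [e', mul_assoc (x i), ← hkj.eq, ← mul_assoc (x i), mul_inv_cancel_right]
  have cA0 : Nat.card ↥(Subgroup.zpowers z) ≤ 2 := by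
    rw [Nat.card_zpowers]
    exact orderOf_le_of_pow_eq_one (by norm_num) (by rw [pow_two, h.z2])
  have cA1 : Nat.card A1 ≤ 2 * 2 :=
    (card_sup_zpowers_le (mem_normalizer_zpowers_of_commute h.za) (n := 2) (by norm_num)
      (by rw [pow_two, h.a2]; exact Subgroup.one_mem _)).trans (by omega)
  have n0 : x 0 ∈ Subgroup.normalizer (A1 : Set G) := hA1n _ (h.zx 0 (by norm_num)) (h.ax 0 (by norm_num))
  have hstep : ∀ (B : Subgroup G) (j : ℕ), j < 4 → A1 ≤ B →
      x j ∈ Subgroup.normalizer (B : Set G) → Nat.card ↥(B ⊔ Subgroup.zpowers (x j)) ≤ 2 * Nat.card B :=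
    fun B j hj hB hn => card_sup_zpowers_le hn (by norm_num) (by rw [pow_two, h.sq j hj]; exact hB hzA)
  have hB0' : A1 ≤ B0 := le_sup_left
  have hB1' : A1 ≤ B1 := hB0'.trans le_sup_left
  have hB2' : A1 ≤ B2 := hB1'.trans le_sup_left
  have hx : ∀ (B : Subgroup G) (i j : ℕ), i < 4 → j < 4 → i < j → A1 ≤ B → x i ∈ B →
      x j * x i * (x j)⁻¹ ∈ B := fun B i j hi hj hij hB hiB => by
    rw [hconj i hi j hj hij]; exact B.mul_mem hiB (hB (hk i j))
  have x0B0 : x 0 ∈ B0 := Subgroup.mem_sup_right (Subgroup.mem_zpowers _)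
  have x1B1 : x 1 ∈ B1 := Subgroup.mem_sup_right (Subgroup.mem_zpowers _)
  have x2B2 : x 2 ∈ B2 := Subgroup.mem_sup_right (Subgroup.mem_zpowers _)
  have x3B3 : x 3 ∈ B3 := Subgroup.mem_sup_right (Subgroup.mem_zpowers _)
  have nB0 : ∀ j, 0 < j → j < 4 → x j ∈ Subgroup.normalizer (B0 : Set G) := fun j h0 hj =>
    mem_normalizer_sup (hA1n _ (h.zx j hj) (h.ax j hj)) (hx B0 0 j (by norm_num) hj h0 hB0' x0B0)
  have nB1 : ∀ j, 1 < j → j < 4 → x j ∈ Subgroup.normalizer (B1 : Set G) := fun j h0 hj =>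
    mem_normalizer_sup (nB0 j (by omega) hj) (hx B1 1 j (by norm_num) hj h0 hB1' x1B1)
  have nB2 : ∀ j, 2 < j → j < 4 → x j ∈ Subgroup.normalizer (B2 : Set G) := fun j h0 hj =>
    mem_normalizer_sup (nB1 j (by omega) hj) (hx B2 2 j (by norm_num) hj h0 hB2' x2B2)
  have cB3 : Nat.card B3 ≤ 64 := by
    have e0 := hstep A1 0 (by norm_num) le_rfl n0
    have e1 := hstep B0 1 (by norm_num) hB0' (nB0 1 (by norm_num) (by norm_num))
    have e2 := hstep B1 2 (by norm_num) hB1' (nB1 2 (by norm_num) (by norm_num))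
    have e3 := hstep B2 3 (by norm_num) hB2' (nB2 3 (by norm_num) (by norm_num))
    rw [← hB0] at e0; rw [← hB1] at e1; rw [← hB2] at e2; rw [← hB3] at e3
    omega
  refine le_trans (Subgroup.card_le_of_le ((Subgroup.closure_le _).2 ?_)) cB3
  rintro _ ⟨i, hi, rfl⟩
  have hi' : i < 4 := hi
  interval_cases i
  · exact Subgroup.mem_sup_left (Subgroup.mem_sup_left (Subgroup.mem_sup_left x0B0))
  · exact Subgroup.mem_sup_left (Subgroup.mem_sup_left x1B1)
  · exact Subgroup.mem_sup_left x2B2
  · exact x3B3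

/-- Two groups of order `64` generated by such elements are isomorphic. -/
theorem Rel4.mulEquiv {H : Type*} [Group H] [Finite H] {x : ℕ → G} {z a : G} {y : ℕ → H} {w b : H}
    (h : Rel4 x z a) (h' : Rel4 y w b) (hG : gen4 x = ⊤) (hH : gen4 y = ⊤)
    (cG : Nat.card G = 64) (cH : Nat.card H = 64) : Nonempty (G ≃* H) := by
  set Γ := gen4 fun i => (x i, y i)
  have hle : Nat.card Γ ≤ 64 := (h.prod h').card_gen_le
  have hs1 : Function.Surjective ((MonoidHom.fst G H).comp Γ.subtype) := by
    rw [← MonoidHom.range_eq_top, MonoidHom.range_comp, Subgroup.range_subtype, MonoidHom.map_closure,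
      Set.image_image]
    exact hG
  have hs2 : Function.Surjective ((MonoidHom.snd G H).comp Γ.subtype) := by
    rw [← MonoidHom.range_eq_top, MonoidHom.range_comp, Subgroup.range_subtype, MonoidHom.map_closure,
      Set.image_image]
    exact hH
  have hge := Nat.card_le_card_of_surjective _ hs1
  let e1 := MulEquiv.ofBijective _ ((Nat.bijective_iff_surjective_and_card _).mpr ⟨hs1, by omega⟩)
  let e2 := MulEquiv.ofBijective _ ((Nat.bijective_iff_surjective_and_card _).mpr ⟨hs2, by omega⟩)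
  exact ⟨e1.symm.trans e2⟩

/-- The four generators of the group `2^(2+4):5` generate a subgroup of order `64`. -/
theorem card_gen_of_rel {x : ℕ → G} {c z a : G} (h : O320.Rel x c z a)
    (hgen : Subgroup.closure ({x 0, c} : Set G) = ⊤) (hG : Nat.card G = 320) :
    Rel4 x z a ∧ Nat.card (gen4 x) = 64 := by
  have h4 : Rel4 x z a := ⟨h.za, h.zx, h.ax, h.z2, h.a2, h.sq, h.comm⟩
  refine ⟨h4, le_antisymm h4.card_gen_le ?_⟩
  have hm : ∀ i < 4, x i ∈ gen4 x := fun i hi => Subgroup.subset_closure ⟨i, hi, rfl⟩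
  have hn : c ∈ Subgroup.normalizer (gen4 x : Set G) := by
    refine mem_normalizer_of_map_le ?_
    rw [MonoidHom.map_closure, Subgroup.closure_le]
    rintro _ ⟨_, ⟨i, hi, rfl⟩, rfl⟩
    show c * x i * c⁻¹ ∈ gen4 x
    have hi' : i < 4 := hi
    rw [h.conj i hi']
    rcases Nat.lt_or_ge (i + 1) 4 with h1 | h1
    · exact hm _ h1
    · rw [show i + 1 = 4 by omega, h.wrap]
      exact mul_mem (mul_mem (mul_mem (hm 0 (by norm_num)) (hm 1 (by norm_num))) (hm 2 (by norm_num)))
        (hm 3 (by norm_num))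
  have hle := card_sup_zpowers_le hn (n := 5) (by norm_num) (by rw [h.cpow]; exact Subgroup.one_mem _)
  have htop : gen4 x ⊔ Subgroup.zpowers c = ⊤ := by
    rw [eq_top_iff, ← hgen, Subgroup.closure_le]
    rintro _ (rfl | rfl)
    · exact Subgroup.mem_sup_left (hm 0 (by norm_num))
    · exact Subgroup.mem_sup_right (Subgroup.mem_zpowers _)
  rw [htop, Subgroup.card_top, hG] at hle
  omega

end Cfsg.Agent.RankTwo
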