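import Cfsg.Agent.Lib.O320.Rel

/-!
`2`-groups with exactly three involutions, permuted cyclically by an automorphism of `3`-power order: a maximal
invariant normal abelian subgroup is its own centralizer.
-/

set_option autoImplicit false
set_option linter.unusedSectionVars false
set_option linter.style.haveILetI false

namespace Cfsg.Agent.RankTwo

open O320 (card_sup_zpowers_le mem_normalizer_of_map_le)

variable {T : Type*} [Group T] [Finite T]

/-- A `2`-group with central four group `V` of all involutions and a fixed-point-free automorphism of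
`3`-power order. -/
structure Setting (α : MulAut T) (V : Subgroup T) : Prop where
  pgroup : IsPGroup 2 T
  mem : ∀ x, x ∈ V ↔ x * x = 1
  central : ∀ v ∈ V, ∀ g, g * v = v * g
  card : Nat.card V = 4
  fix : ∀ x, α x = x → x = 1
  order : ∃ a : ℕ, ∀ x, (α ^ (3 ^ a)) x = x

namespace Setting

variable {α : MulAut T} {V : Subgroup T} (S : Setting α V)
include S

theorem map_mem {v : T} (hv : v ∈ V) : α v ∈ V := by
  rw [S.mem] at hv ⊢
  rw [← map_mul, hv, map_one]

/-- An element fixed modulo an invariant subgroup lies in it. -/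
theorem fix_coset (N : Subgroup T) (hN : ∀ n ∈ N, α n ∈ N) {x : T} (hx : x⁻¹ * α x ∈ N) : x ∈ N := by
  classical
  haveI : Fact (Nat.Prime 3) := ⟨Nat.prime_three⟩
  obtain ⟨a, ha⟩ := S.order
  haveI := Fintype.ofFinite T
  let X := {y : T // x⁻¹ * y ∈ N}
  let f : Function.End X := fun y => ⟨α y.1, by
    have : x⁻¹ * α y.1 = x⁻¹ * α x * α (x⁻¹ * y.1) := by rw [map_mul, map_inv]; group
    rw [this]
    exact mul_mem hx (hN _ y.2)⟩
  have hf : ∀ (m : ℕ) (y : X), ((f ^ m) y).1 = (α ^ m) y.1 := by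
    intro m
    induction m with
    | zero => intro y; rfl
    | succ m ih =>
      intro y
      rw [pow_succ', pow_succ', MulAut.mul_apply, ← ih]
      rfl
  have hmod := Equiv.Perm.card_fixedPoints_modEq (p := 3) (n := a) (f := f)
    (funext fun y => Subtype.ext ((hf _ y).trans (ha _)))
  obtain ⟨k, hk⟩ := IsPGroup.iff_card.mp (S.pgroup.to_subgroup N)
  have hX : Fintype.card X = 2 ^ k := by
    rw [← hk, ← Nat.card_eq_fintype_card]
    exact Nat.card_congr ((Equiv.mulLeft x⁻¹).subtypeEquiv fun y => Iff.rfl)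
  have hne : Nonempty (Function.fixedPoints f) := by
    rw [← Fintype.card_pos_iff]
    refine Nat.pos_of_ne_zero fun h0 => ?_
    rw [hX, h0] at hmod
    exact absurd (Nat.prime_three.dvd_of_dvd_pow (Nat.modEq_zero_iff_dvd.1 hmod)) (by norm_num)
  obtain ⟨⟨y, hy⟩, hyf⟩ := hne
  have h1 : y = 1 := S.fix y (congrArg Subtype.val hyf)
  subst h1
  simpa using hy

/-- The four elements of `V`. -/
theorem four {a b : T} (ha : a ∈ V) (hb : b ∈ V) (ha1 : a ≠ 1) (hb1 : b ≠ 1) (hab : a ≠ b) {v : T}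
    (hv : v ∈ V) : v = 1 ∨ v = a ∨ v = b ∨ v = a * b := by
  classical
  haveI := Fintype.ofFinite T
  have hcard : ({1, a, b, a * b} : Finset T).card = 4 := by
    rw [Finset.card_insert_of_notMem, Finset.card_insert_of_notMem, Finset.card_pair]
    · intro h; exact ha1 (mul_eq_right.1 h.symm)
    · simp only [Finset.mem_insert, Finset.mem_singleton, not_or]
      exact ⟨hab, fun h => hb1 (mul_eq_left.1 h.symm)⟩
    · simp only [Finset.mem_insert, Finset.mem_singleton, not_or]
      refine ⟨Ne.symm ha1, Ne.symm hb1, fun h => hab ?_⟩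
      rw [eq_inv_of_mul_eq_one_right h.symm, inv_eq_of_mul_eq_one_right ((S.mem a).1 ha)]
  have hsub : ({1, a, b, a * b} : Finset T) = Finset.univ.filter fun y => y ∈ V := by
    refine Finset.eq_of_subset_of_card_le (fun y hy => ?_) ?_
    · simp only [Finset.mem_insert, Finset.mem_singleton] at hy
      refine Finset.mem_filter.2 ⟨Finset.mem_univ _, ?_⟩
      rcases hy with rfl | rfl | rfl | rfl
      exacts [V.one_mem, ha, hb, V.mul_mem ha hb]
    · rw [hcard, ← Fintype.card_subtype, ← Nat.card_eq_fintype_card]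
      exact S.card.le
  have h : v ∈ ({1, a, b, a * b} : Finset T) := hsub ▸ Finset.mem_filter.2 ⟨Finset.mem_univ _, hv⟩
  simpa only [Finset.mem_insert, Finset.mem_singleton] using h

theorem inv_eq {v : T} (hv : v ∈ V) : v⁻¹ = v := inv_eq_of_mul_eq_one_right ((S.mem v).1 hv)

theorem map_ne_one {v : T} (hv : v ≠ 1) : α v ≠ 1 := (map_ne_one_iff α α.injective).2 hv

theorem alpha_sq {v : T} (hv : v ∈ V) : α (α v) = v * α v := by
  by_cases h1 : v = 1
  · simp [h1]
  have hne : α v ≠ v := fun h => h1 (S.fix v h)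
  have hv1 : α v ∈ V := S.map_mem hv
  rcases S.four hv hv1 h1 (S.map_ne_one h1) hne.symm (S.map_mem hv1) with h | h | h | h
  · exact absurd h (S.map_ne_one (S.map_ne_one h1))
  · have := S.fix (v * α v) (by rw [map_mul, h]; exact (S.central v hv (α v)))
    exact absurd (eq_inv_of_mul_eq_one_right this) (by rw [S.inv_eq hv]; exact hne)
  · exact absurd (α.injective h) hne
  · exact h

theorem alpha_cube {v : T} (hv : v ∈ V) : α (α (α v)) = v := by
  have h : α (v * α v) = v := by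
    rw [map_mul, S.alpha_sq hv, ← mul_assoc, S.central v hv (α v), mul_assoc,
      (S.mem (α v)).1 (S.map_mem hv), mul_one]
  rwa [← S.alpha_sq hv] at h

/-- An invariant subgroup contains preimages of its elements. -/
theorem mem_of_map {A : Subgroup T} (hAi : ∀ x ∈ A, α x ∈ A) {x : T} (hx : α x ∈ A) : x ∈ A := by
  have h : A.map α.toMonoidHom = A := by
    refine Subgroup.eq_of_le_of_card_ge ?_ ?_
    · rintro _ ⟨z, hz, rfl⟩
      exact hAi z hz
    · exact (Nat.card_congr (Subgroup.equivMapOfInjective A α.toMonoidHom α.injective).toEquiv).le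
  obtain ⟨z, hz, hzy⟩ := h.symm ▸ hx
  exact α.injective hzy ▸ hz

/-- A pair of an element and its image commute when their three images multiply to an element of the centre. -/
theorem pair_commute {u c : T} (hc : α (α u) = u * α u * c)
    (hcu : c * u = u * c) (hcu' : c * α u = α u * c) (hw : u * α u * u⁻¹ * (α u)⁻¹ ∈ V) :
    u * α u = α u * u := by
  set w := u * α u * u⁻¹ * (α u)⁻¹ with hwdef
  have h1 : u * α u = w * (α u * u) := by rw [hwdef]; group
  suffices α w = w by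
    rw [h1, S.fix w this, one_mul]
  have h2 : α w = α u * (u * α u * c) * (α u)⁻¹ * (u * α u * c)⁻¹ := by
    rw [hwdef, map_mul, map_mul, map_mul, map_inv, map_inv, hc]
  have h3 : α w = w⁻¹ := by
    rw [h2, show α u * (u * α u * c) * (α u)⁻¹ * (u * α u * c)⁻¹ =
      α u * u * (α u * c) * (α u)⁻¹ * c⁻¹ * (α u)⁻¹ * u⁻¹ by group, ← hcu', hwdef]
    group
  rw [h3, inv_eq_of_mul_eq_one_right ((S.mem w).1 hw)]

end Setting

/-- A normal subgroup of a `2`-group strictly containing a normal subgroup has an element central modulo it. -/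
theorem exists_central_mod (hT : IsPGroup 2 T) {A C : Subgroup T} [A.Normal] [C.Normal] (hAC : A < C) :
    ∃ u ∈ C, u ∉ A ∧ u * u ∈ A ∧ ∀ g, g * u * g⁻¹ * u⁻¹ ∈ A := by
  classical
  haveI : Fact (Nat.Prime 2) := ⟨Nat.prime_two⟩
  let π := QuotientGroup.mk' A
  let Cb := C.map π
  haveI : Cb.Normal := Subgroup.Normal.map inferInstance π (QuotientGroup.mk'_surjective A)
  letI : MulAction (T ⧸ A) Cb := MulAction.compHom Cb (MulAut.conjNormal (H := Cb))
  have hfix : ∀ y : Cb, y ∈ MulAction.fixedPoints (T ⧸ A) Cb ↔ ∀ g : T ⧸ A, g * y = y * g := fun y => by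
    refine forall_congr' fun g => ?_
    show MulAut.conjNormal g y = y ↔ _
    rw [← Subtype.coe_inj, MulAut.conjNormal_apply, mul_inv_eq_iff_eq_mul]
  have hmod := (hT.to_quotient A).card_modEq_card_fixedPoints Cb
  have hC2 : 2 ∣ Nat.card Cb := by
    obtain ⟨k, hk⟩ := IsPGroup.iff_card.mp ((hT.to_quotient A).to_subgroup Cb)
    rw [hk]
    refine dvd_pow_self 2 fun h0 => hAC.not_ge fun c hc => ?_
    rw [h0, pow_zero, Subgroup.card_eq_one] at hk
    exact (QuotientGroup.eq_one_iff c).1 (Subgroup.mem_bot.1 (hk ▸ Subgroup.mem_map_of_mem π hc))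
  let Z : Subgroup (T ⧸ A) := Cb ⊓ Subgroup.center (T ⧸ A)
  have hcard : Nat.card Z = Nat.card (MulAction.fixedPoints (T ⧸ A) Cb) := Nat.card_congr
    { toFun := fun z => ⟨⟨z.1, z.2.1⟩, (hfix _).2 fun g => Subgroup.mem_center_iff.1 z.2.2 g⟩
      invFun := fun y => ⟨y.1.1, y.1.2, Subgroup.mem_center_iff.2 ((hfix _).1 y.2)⟩
      left_inv := fun z => rfl
      right_inv := fun y => rfl }
  obtain ⟨z, hz⟩ := exists_prime_orderOf_dvd_card' (G := Z) 2 (by
    rw [hcard]
    exact (Nat.modEq_zero_iff_dvd.1 (hmod.symm.trans (Nat.modEq_zero_iff_dvd.2 hC2))))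
  obtain ⟨u, huC, hu⟩ := Subgroup.mem_map.1 z.2.1
  refine ⟨u, huC, fun huA => ?_, ?_, fun g => ?_⟩
  · have h1 : z = 1 := Subtype.ext (hu.symm.trans ((QuotientGroup.eq_one_iff u).2 huA))
    rw [h1, orderOf_one] at hz
    omega
  · rw [← QuotientGroup.eq_one_iff]
    have h := congrArg Subtype.val (hz ▸ pow_orderOf_eq_one z : z ^ 2 = 1)
    rw [SubmonoidClass.coe_pow, ← hu, pow_two, ← map_mul] at h
    exact h
  · rw [← QuotientGroup.eq_one_iff]
    show π (g * u * g⁻¹ * u⁻¹) = 1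
    rw [map_mul, map_mul, map_mul, map_inv, map_inv, hu, Subgroup.mem_center_iff.1 z.2.2 (π g)]
    group

/-- The subgroup of elements of `C` which are involutions of the centre modulo `A`. -/
def omegaMod (A C : Subgroup T) [A.Normal] : Subgroup T where
  carrier := {u | u ∈ C ∧ u * u ∈ A ∧ ∀ g, g * u * g⁻¹ * u⁻¹ ∈ A}
  one_mem' := ⟨C.one_mem, by simp, fun g => by simp⟩
  mul_mem' := by
    rintro u v ⟨hu, hu2, huc⟩ ⟨hv, hv2, hvc⟩
    refine ⟨C.mul_mem hu hv, ?_, fun g => ?_⟩
    · have h : u * v * (u * v) = u * (v * u * v⁻¹ * u⁻¹) * u⁻¹ * (u * u) * (v * v) := by group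
      rw [h]
      exact mul_mem (mul_mem (Subgroup.Normal.conj_mem ‹_› _ (huc v) u) hu2) hv2
    · have h : g * (u * v) * g⁻¹ * (u * v)⁻¹ = (g * u * g⁻¹ * u⁻¹) * (u * (g * v * g⁻¹ * v⁻¹) * u⁻¹) := by group
      rw [h]
      exact mul_mem (huc g) (Subgroup.Normal.conj_mem ‹_› _ (hvc g) u)
  inv_mem' := by
    rintro u ⟨hu, hu2, huc⟩
    refine ⟨C.inv_mem hu, ?_, fun g => ?_⟩
    · rw [← mul_inv_rev]
      exact A.inv_mem hu2
    · have h : g * u⁻¹ * g⁻¹ * u⁻¹⁻¹ = u⁻¹ * (g * u * g⁻¹ * u⁻¹)⁻¹ * u⁻¹⁻¹ := by group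
      rw [h]
      exact Subgroup.Normal.conj_mem ‹_› _ (A.inv_mem (huc g)) u⁻¹

theorem mem_omegaMod {A C : Subgroup T} [A.Normal] {u : T} :
    u ∈ omegaMod A C ↔ u ∈ C ∧ u * u ∈ A ∧ ∀ g, g * u * g⁻¹ * u⁻¹ ∈ A := Iff.rfl

namespace Setting

variable {α : MulAut T} {V : Subgroup T} (S : Setting α V)
include S

/-- The sum of the orbit of an element fixed by the cube of `α` modulo `A` is trivial modulo `A`. -/
theorem orbit_mod {A : Subgroup T} [A.Normal] (hAi : ∀ x ∈ A, α x ∈ A) {u : T} (hu2 : u * u ∈ A)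
    (huc : ∀ g, g * u * g⁻¹ * u⁻¹ ∈ A) (h3 : u⁻¹ * α (α (α u)) ∈ A) :
    (u * α u)⁻¹ * α (α u) ∈ A := by
  let π := QuotientGroup.mk' A
  have hmem : ∀ {g : T}, π g = 1 ↔ g ∈ A := fun {g} => QuotientGroup.eq_one_iff g
  have hcu : ∀ g : T, π g * π u = π u * π g := fun g => by
    have h := hmem.2 (huc g)
    simp only [map_mul, map_inv] at h
    rwa [mul_inv_eq_one, mul_inv_eq_iff_eq_mul] at h
  have hcau : ∀ g : T, π g * π (α u) = π (α u) * π g := fun g => by
    obtain ⟨g', rfl⟩ := α.surjective g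
    have h := hmem.2 (hAi _ (huc g'))
    simp only [map_mul, map_inv] at h
    rwa [mul_inv_eq_one, mul_inv_eq_iff_eq_mul] at h
  have h3' : π (α (α (α u))) = π u := by
    have h := hmem.2 h3
    rw [map_mul, map_inv, inv_mul_eq_one] at h
    exact h.symm
  have hp : u * α u * α (α u) ∈ A := by
    refine S.fix_coset A hAi ?_
    rw [← hmem, map_mul, map_inv, inv_mul_eq_one]
    simp only [map_mul, h3']
    rw [← map_mul π (α u), hcu, map_mul, mul_assoc]
  have eu : (π u)⁻¹ = π u := inv_eq_of_mul_eq_one_right (by rw [← map_mul]; exact hmem.2 hu2)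
  have eau : (π (α u))⁻¹ = π (α u) := inv_eq_of_mul_eq_one_right (by
    rw [← map_mul, ← map_mul]; exact hmem.2 (hAi _ hu2))
  have e : π u * π (α u) * π (α (α u)) = 1 := by rw [← map_mul, ← map_mul]; exact hmem.2 hp
  have e2 : π (α (α u)) = π u * π (α u) := by
    rw [← inv_eq_of_mul_eq_one_right e, mul_inv_rev, eu, eau, hcau]
  rw [← hmem, map_mul, map_inv, map_mul, e2, inv_mul_cancel]

/-- The abelian subgroup generated by a piece. -/
theorem exists_larger {A : Subgroup T} [A.Normal] (hAi : ∀ x ∈ A, α x ∈ A)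
    (hAab : ∀ x ∈ A, ∀ y ∈ A, x * y = y * x) {u : T} (huA : u ∉ A) (hu2 : u * u ∈ A)
    (huc : ∀ g, g * u * g⁻¹ * u⁻¹ ∈ A) (hua : ∀ x ∈ A, x * u = u * x)
    (hw : u * α u * u⁻¹ * (α u)⁻¹ ∈ V) (h3 : u⁻¹ * α (α (α u)) ∈ A) :
    ∃ D : Subgroup T, A < D ∧ D.Normal ∧ (∀ x ∈ D, α x ∈ D) ∧ ∀ x ∈ D, ∀ y ∈ D, x * y = y * x := by
  have hau : ∀ x ∈ A, x * α u = α u * x := fun x hx => by
    obtain ⟨y, rfl⟩ := α.surjective x
    rw [← map_mul, ← map_mul, hua y (S.mem_of_map hAi hx)]
  set c := (u * α u)⁻¹ * α (α u) with hcdef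
  have hcA : c ∈ A := S.orbit_mod hAi hu2 huc h3
  have hcomm : u * α u = α u * u :=
    S.pair_commute (c := c) (by rw [hcdef]; group) (hua c hcA) (hau c hcA) hw
  let Gn : Set T := (A : Set T) ∪ {u, α u}
  refine ⟨Subgroup.closure Gn, ?_, ?_, ?_, ?_⟩
  · exact lt_of_le_of_ne (fun x hx => Subgroup.subset_closure (Or.inl hx))
      fun e => huA (e.symm ▸ Subgroup.subset_closure (Or.inr (Or.inl rfl)))
  · refine ⟨fun x hx g => ?_⟩
    have : Subgroup.closure Gn ≤ (Subgroup.closure Gn).comap (MulAut.conj g).toMonoidHom := by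
      rw [Subgroup.closure_le]
      have key : ∀ y ∈ Gn, g * y * g⁻¹ ∈ Subgroup.closure Gn := by
        intro y hy
        have h1 : g * y * g⁻¹ * y⁻¹ ∈ A := by
          rcases hy with hy | hy | hy
          · exact mul_mem (Subgroup.Normal.conj_mem ‹_› y hy g) (A.inv_mem hy)
          · exact hy ▸ huc g
          · rw [hy]
            obtain ⟨g', rfl⟩ := α.surjective g
            have := hAi _ (huc g')
            simpa using this
        have := mul_mem (Subgroup.subset_closure (Or.inl h1) : _ ∈ Subgroup.closure Gn)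
          (Subgroup.subset_closure hy)
        simpa using this
      exact fun y hy => key y hy
    exact this hx
  · intro x hx
    have : Subgroup.closure Gn ≤ (Subgroup.closure Gn).comap α.toMonoidHom := by
      rw [Subgroup.closure_le]
      rintro y (hy | hy | hy)
      · exact Subgroup.subset_closure (Or.inl (hAi y hy))
      · exact Subgroup.subset_closure (Or.inr (Or.inr (by rw [hy]; rfl)))
      · show α y ∈ Subgroup.closure Gn
        rw [hy, show α (α u) = u * α u * c by rw [hcdef]; group]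
        exact mul_mem (mul_mem (Subgroup.subset_closure (Or.inr (Or.inl rfl)))
          (Subgroup.subset_closure (Or.inr (Or.inr rfl)))) (Subgroup.subset_closure (Or.inl hcA))
    exact this hx
  · intro x hx y hy
    refine Subgroup.closure_induction₂ (p := fun x y _ _ => x * y = y * x) (fun a b ha hb => ?_)
      (fun a _ => by simp) (fun a _ => by simp) (fun a b c _ _ _ h1 h2 => by rw [mul_assoc, h2, ← mul_assoc, h1, mul_assoc])
      (fun a b c _ _ _ h1 h2 => by rw [← mul_assoc, h1, mul_assoc, h2, ← mul_assoc])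
      (fun a b _ _ h => (Commute.inv_left h).eq) (fun a b _ _ h => (Commute.inv_right h).eq) hx hy
    rcases ha with ha | ha | ha <;> rcases hb with hb | hb | hb
    · exact hAab a ha b hb
    · exact hb ▸ hua a ha
    · exact hb ▸ hau a ha
    · exact ha ▸ (hua b hb).symm
    · rw [ha, hb]
    · rw [ha, hb]; exact hcomm
    · exact ha ▸ (hau b hb).symm
    · rw [ha, hb]; exact hcomm.symm
    · rw [ha, hb]

/-- A commuting triple, independent modulo `V`, is impossible. -/
theorem no_triple {H : Subgroup T} (hH : ∀ x ∈ H, ∀ y ∈ H, x * y = y * x) (hsq : ∀ x ∈ H, x * x ∈ V) :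
    Nat.card H ≤ 16 := by
  let ψ : H →* V :=
    { toFun := fun x => ⟨x * x, hsq x x.2⟩
      map_one' := Subtype.ext (by simp)
      map_mul' := fun x y => Subtype.ext (by
        show (x : T) * y * (x * y) = x * x * (y * y)
        rw [mul_assoc (x : T) y, ← mul_assoc (y : T) x y, hH y y.2 x x.2]
        group) }
  have h1 := Subgroup.card_eq_card_quotient_mul_card_subgroup ψ.ker
  rw [Nat.card_congr (QuotientGroup.quotientKerEquivRange ψ).toEquiv] at h1
  have h2 : Nat.card ψ.range ≤ 4 := S.card ▸ Subgroup.card_le_card_group _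
  have h3 : Nat.card ψ.ker ≤ 4 := by
    rw [← S.card]
    refine Nat.card_le_card_of_injective (fun k : ψ.ker => (⟨((k : H) : T), (S.mem _).2
      (congrArg Subtype.val k.2)⟩ : V)) fun k k' h => Subtype.ext (Subtype.ext (by simpa using congrArg Subtype.val h))
  calc Nat.card H = _ := h1
    _ ≤ 4 * 4 := Nat.mul_le_mul h2 h3

omit S in
theorem two_mul_card_le {H K : Subgroup T} (h : H < K) : 2 * Nat.card H ≤ Nat.card K := by
  obtain ⟨m, hm⟩ := Subgroup.card_dvd_of_le h.le
  have h1 : Nat.card H ≠ Nat.card K := fun e => h.ne (Subgroup.eq_of_le_of_card_ge h.le e.ge)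
  rcases m with _ | _ | m
  · rw [mul_zero] at hm; exact absurd hm Nat.card_pos.ne'
  · simp at hm; exact absurd hm.symm h1
  · rw [hm, mul_comm 2]; exact Nat.mul_le_mul_left _ (by omega)

theorem comm_bilin {y y' z k k' : T} (hk' : k' ∈ V) (h : y * z = k * (z * y))
    (h' : y' * z = k' * (z * y')) : y * y' * z = k * k' * (z * (y * y')) := by
  calc y * y' * z = y * (k' * (z * y')) := by rw [mul_assoc, h']
    _ = k' * (y * z * y') := by rw [← mul_assoc, S.central k' hk' y]; simp only [mul_assoc]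
    _ = k * k' * (z * (y * y')) := by
      rw [h, show k * k' = k' * k from S.central k' hk' k]; simp only [mul_assoc]

/-- Elements central modulo `V` with squares in `V` form a group of order at most `128`. -/
theorem card_omegaMod_le [V.Normal] (C : Subgroup T) (hVC : V ≤ C) : Nat.card (omegaMod V C) ≤ 128 := by
  classical
  by_contra hcon
  push Not at hcon
  set B := omegaMod V C with hB
  have hVc : ∀ v ∈ V, ∀ g : T, g * v = v * g := S.central
  have hVB : V ≤ B := fun v hv => ⟨hVC hv, by rw [(S.mem v).1 hv]; exact V.one_mem, fun g => by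
    rw [hVc v hv g, mul_inv_cancel_right, mul_inv_cancel]; exact V.one_mem⟩
  -- commutator function
  have hk : ∀ y : T, ∀ z ∈ B, ∃ k ∈ V, y * z = k * (z * y) := fun y z hz =>
    ⟨y * z * y⁻¹ * z⁻¹, hz.2.2 y, by group⟩
  obtain ⟨u, huB, huV⟩ : ∃ u ∈ B, u ∉ V := by
    by_contra h
    push Not at h
    have := Subgroup.card_le_of_le (show B ≤ V from h)
    rw [S.card] at this
    omega
  let κ : B →* V :=
    { toFun := fun b => ⟨u * b * u⁻¹ * (b : T)⁻¹, b.2.2.2 u⟩
      map_one' := Subtype.ext (by simp)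
      map_mul' := fun b b' => Subtype.ext (by
        show u * ((b : T) * b') * u⁻¹ * ((b : T) * b')⁻¹ =
          (u * b * u⁻¹ * (b : T)⁻¹) * (u * b' * u⁻¹ * (b' : T)⁻¹)
        rw [show u * ((b : T) * b') * u⁻¹ * ((b : T) * b')⁻¹ =
          u * b * u⁻¹ * ((u * b' * u⁻¹ * (b' : T)⁻¹) * (b : T)⁻¹) by group,
          show u * b * u⁻¹ * (b : T)⁻¹ * (u * b' * u⁻¹ * (b' : T)⁻¹) =
          u * b * u⁻¹ * ((b : T)⁻¹ * (u * b' * u⁻¹ * (b' : T)⁻¹)) by group,
          hVc _ (b'.2.2.2 u) (b : T)⁻¹]) }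
  let K := κ.ker.map B.subtype
  have hK : 32 < Nat.card K := by
    rw [← Nat.card_congr (Subgroup.equivMapOfInjective _ _ B.subtype_injective).toEquiv]
    have h := Subgroup.card_eq_card_quotient_mul_card_subgroup κ.ker
    rw [Nat.card_congr (QuotientGroup.quotientKerEquivRange κ).toEquiv] at h
    have := Nat.mul_le_mul_right (Nat.card κ.ker) (S.card ▸ Subgroup.card_le_card_group κ.range)
    omega
  have hKB : K ≤ B := fun x ⟨b, _, e⟩ => e ▸ b.2
  have hKu : ∀ x ∈ K, u * x = x * u := by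
    rintro _ ⟨b, hb, rfl⟩
    have h : u * b * u⁻¹ * (b : T)⁻¹ = 1 := congrArg Subtype.val hb
    rwa [mul_inv_eq_one, mul_inv_eq_iff_eq_mul] at h
  have hnorm : ∀ {y : T}, y ∈ B → ∀ H : Subgroup T, V ≤ H → H ≤ B →
      y ∈ Subgroup.normalizer (H : Set T) := fun {y} hy H hVH hHB =>
    mem_normalizer_of_map_le <| by
      rintro _ ⟨h, hh, rfl⟩
      show y * h * y⁻¹ ∈ H
      obtain ⟨k, hkV, e⟩ := hk y h (hHB hh)
      rw [e, show k * (h * y) * y⁻¹ = k * h by group]
      exact H.mul_mem (hVH hkV) hh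
  have hgrow : ∀ {y : T}, y ∈ B → ∀ H : Subgroup T, V ≤ H → H ≤ B →
      Nat.card ↥(H ⊔ Subgroup.zpowers y) ≤ 2 * Nat.card H ∧ V ≤ H ⊔ Subgroup.zpowers y ∧
        H ⊔ Subgroup.zpowers y ≤ B := fun {y} hy H hVH hHB =>
    ⟨card_sup_zpowers_le (hnorm hy H hVH hHB) (n := 2) (by norm_num) (by rw [pow_two]; exact hVH hy.2.1),
      hVH.trans le_sup_left, sup_le hHB (Subgroup.zpowers_le.2 hy)⟩
  set H1 := V ⊔ Subgroup.zpowers u with hH1
  obtain ⟨c1, v1, b1⟩ := hgrow huB V le_rfl hVB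
  rw [S.card, ← hH1] at c1
  rw [← hH1] at v1 b1
  have hpick : ∀ H : Subgroup T, Nat.card H ≤ 32 → ∃ y ∈ K, y ∉ H := fun H hH => by
    by_contra h
    push Not at h
    have := Subgroup.card_le_of_le (show K ≤ H from h)
    omega
  obtain ⟨y1, hy1K, hy1⟩ := hpick H1 (by omega)
  set H2 := H1 ⊔ Subgroup.zpowers y1 with hH2
  obtain ⟨c2, v2, b2⟩ := hgrow (hKB hy1K) H1 v1 b1
  rw [← hH2] at c2 v2 b2
  obtain ⟨y2, hy2K, hy2⟩ := hpick H2 (by omega)
  set H3 := H2 ⊔ Subgroup.zpowers y2 with hH3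
  obtain ⟨c3, v3, b3⟩ := hgrow (hKB hy2K) H2 v2 b2
  rw [← hH3] at c3 v3 b3
  obtain ⟨y3, hy3K, hy3⟩ := hpick H3 (by omega)
  have hy1H2 : y1 ∈ H2 := Subgroup.mem_sup_right (Subgroup.mem_zpowers y1)
  have hy1H3 : y1 ∈ H3 := Subgroup.mem_sup_left hy1H2
  have hy2H3 : y2 ∈ H3 := Subgroup.mem_sup_right (Subgroup.mem_zpowers y2)
  have hH13 : H1 ≤ H3 := le_sup_left.trans le_sup_left
  -- two commuting elements give an abelian group of order at least 32
  have pair : ∀ {y z : T}, y ∈ K → z ∈ K → y * z = z * y → y ∉ H1 → z ∉ H1 ⊔ Subgroup.zpowers y → False := by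
    intro y z hy hz hyz hy1' hz1
    obtain ⟨-, v', b'⟩ := hgrow (hKB hy) H1 v1 b1
    have e1 : 2 * Nat.card V ≤ Nat.card H1 :=
      two_mul_card_le (lt_of_le_of_ne v1 fun e => huV
        (e.symm ▸ Subgroup.mem_sup_right (Subgroup.mem_zpowers u)))
    have e2 : 2 * Nat.card H1 ≤ Nat.card ↥(H1 ⊔ Subgroup.zpowers y) :=
      two_mul_card_le (lt_of_le_of_ne le_sup_left fun e => hy1'
        (e.symm ▸ Subgroup.mem_sup_right (Subgroup.mem_zpowers y)))
    set E := H1 ⊔ Subgroup.zpowers y ⊔ Subgroup.zpowers z with hE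
    have e3 : 2 * Nat.card ↥(H1 ⊔ Subgroup.zpowers y) ≤ Nat.card E :=
      two_mul_card_le (lt_of_le_of_ne le_sup_left fun e => hz1
        (e.symm ▸ Subgroup.mem_sup_right (Subgroup.mem_zpowers z)))
    obtain ⟨-, -, bE⟩ := hgrow (hKB hz) _ v' b'
    have hEgen : E = Subgroup.closure ((V : Set T) ∪ {u, y, z}) := by
      refine le_antisymm ?_ ((Subgroup.closure_le _).2 ?_)
      · refine sup_le (sup_le (sup_le (fun v hv => Subgroup.subset_closure (Or.inl hv)) ?_) ?_) ?_ <;>
          exact Subgroup.zpowers_le.2 (Subgroup.subset_closure (Or.inr (by simp)))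
      · rintro x (hx | hx | hx | hx)
        · exact Subgroup.mem_sup_left (Subgroup.mem_sup_left (v1 hx))
        · exact hx ▸ Subgroup.mem_sup_left (Subgroup.mem_sup_left
            (Subgroup.mem_sup_right (Subgroup.mem_zpowers u)))
        · exact hx ▸ Subgroup.mem_sup_left (Subgroup.mem_sup_right (Subgroup.mem_zpowers y))
        · exact hx ▸ Subgroup.mem_sup_right (Subgroup.mem_zpowers z)
    have hcomm : ∀ a ∈ E, ∀ b ∈ E, a * b = b * a := by
      intro a ha b hb
      rw [hEgen] at ha hb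
      refine Subgroup.closure_induction₂ (p := fun a b _ _ => Commute a b) (fun a b ha hb => ?_)
        (fun a _ => Commute.one_left a) (fun a _ => Commute.one_right a)
        (fun a b c _ _ _ h h' => h.mul_left h') (fun a b c _ _ _ h h' => h.mul_right h')
        (fun a b _ _ h => h.inv_left) (fun a b _ _ h => h.inv_right) ha hb
      rcases ha with ha | ha
      · exact (hVc a ha b).symm
      rcases hb with hb | hb
      · exact hVc b hb a
      simp only [Set.mem_insert_iff, Set.mem_singleton_iff] at ha hb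
      rcases ha with rfl | rfl | rfl <;> rcases hb with rfl | rfl | rfl
      exacts [Commute.refl _, hKu _ hy, hKu _ hz, (hKu _ hy).symm, Commute.refl _, hyz,
        (hKu _ hz).symm, hyz.symm, Commute.refl _]
    have := S.no_triple (H := E) hcomm fun x hx => (bE hx).2.1
    have := S.card
    omega
  obtain ⟨c12, h12V, h12⟩ := hk y1 y2 (hKB hy2K)
  obtain ⟨c13, h13V, h13⟩ := hk y1 y3 (hKB hy3K)
  obtain ⟨c23, h23V, h23⟩ := hk y2 y3 (hKB hy3K)
  have flip : ∀ {a b k : T}, k ∈ V → a * b = k * (b * a) → b * a = k * (a * b) := fun {a b k} hk h => by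
    rw [h, ← mul_assoc, (S.mem k).1 hk, one_mul]
  have hsub : ∀ {y z : T}, y ∈ H3 → z ∉ H3 → z ∉ H1 ⊔ Subgroup.zpowers y := fun {y z} hy hz h =>
    hz (sup_le hH13 (Subgroup.zpowers_le.2 hy) h)
  have hy21 : y2 ∉ H1 := fun h => hy2 (Subgroup.mem_sup_left h)
  have hy12 : y1 * y2 ∉ H1 := fun h =>
    hy2 ((H2.mul_mem_cancel_left hy1H2).1 (Subgroup.mem_sup_left h))
  have hy23 : y2 * y3 ∉ H3 := fun h => hy3 ((H3.mul_mem_cancel_left hy2H3).1 h)
  have hy13 : y1 * y3 ∉ H3 := fun h => hy3 ((H3.mul_mem_cancel_left hy1H3).1 h)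
  by_cases e12 : c12 = 1
  · exact pair hy1K hy2K (by rw [h12, e12, one_mul]) hy1 hy2
  by_cases e13 : c13 = 1
  · exact pair hy1K hy3K (by rw [h13, e13, one_mul]) hy1 (hsub hy1H3 hy3)
  by_cases e23 : c23 = 1
  · exact pair hy2K hy3K (by rw [h23, e23, one_mul]) hy21 (hsub hy2H3 hy3)
  by_cases f1 : c12 = c13
  · refine pair hy1K (K.mul_mem hy2K hy3K) ?_ hy1 (hsub hy1H3 hy23)
    have h := S.comm_bilin h13V (flip h12V h12) (flip h13V h13)
    rw [f1, (S.mem c13).1 h13V, one_mul] at h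
    exact h.symm
  by_cases f2 : c12 = c23
  · refine pair hy2K (K.mul_mem hy1K hy3K) ?_ hy21 (hsub hy2H3 hy13)
    have h := S.comm_bilin h23V h12 (flip h23V h23)
    rw [f2, (S.mem c23).1 h23V, one_mul] at h
    exact h.symm
  by_cases f3 : c13 = c23
  · refine pair (K.mul_mem hy1K hy2K) hy3K ?_ hy12 (hsub (H3.mul_mem hy1H3 hy2H3) hy3)
    have h := S.comm_bilin h23V h13 h23
    rw [f3, (S.mem c23).1 h23V, one_mul] at h
    exact h
  have hc : c23 = c12 * c13 := by
    rcases S.four h12V h13V e12 e13 f1 h23V with h | h | h | h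
    exacts [absurd h e23, absurd h.symm f2, absurd h.symm f3, h]
  refine pair (K.mul_mem hy1K hy2K) (K.mul_mem hy2K hy3K) ?_ hy12
    (hsub (H3.mul_mem hy1H3 hy2H3) hy23)
  -- commutator of `y1 y2` with `y2 y3`
  have hA : y2 * (y1 * y2) = c12 * ((y1 * y2) * y2) := by
    rw [← mul_assoc, flip h12V h12]; group
  have hB' : y3 * (y1 * y2) = (c13 * c23) * ((y1 * y2) * y3) :=
    flip (V.mul_mem h13V h23V) (S.comm_bilin h23V h13 h23)
  have h := S.comm_bilin (V.mul_mem h13V h23V) hA hB'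
  rw [← mul_assoc c12, ← hc, (S.mem c23).1 h23V, one_mul] at h
  exact h.symm

end Setting

/-- A permutation of `3`-power order whose cube has no fixed point moves a multiple of nine points. -/
theorem nine_dvd_card {X : Type*} [Fintype X] [DecidableEq X] (σ : Equiv.Perm X) (a : ℕ)
    (ha : σ ^ 3 ^ a = 1) (h3 : ∀ x, σ (σ (σ x)) ≠ x) : 9 ∣ Fintype.card X := by
  have hs : σ.support = Finset.univ := Finset.eq_univ_iff_forall.2 fun x =>
    Equiv.Perm.mem_support.2 fun e => h3 x (by rw [e, e, e])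
  rw [← Finset.card_univ, ← hs, ← Equiv.Perm.sum_cycleType]
  refine Multiset.dvd_sum fun n hn => ?_
  obtain ⟨j, -, rfl⟩ := (Nat.dvd_prime_pow Nat.prime_three).1
    ((Equiv.Perm.dvd_of_mem_cycleType hn).trans (orderOf_dvd_of_pow_eq_one ha))
  match j with
  | 0 => exact absurd (Equiv.Perm.two_le_of_mem_cycleType hn) (by norm_num)
  | 1 =>
    rw [Equiv.Perm.cycleType_def, Multiset.mem_map] at hn
    obtain ⟨c, hc, hcn⟩ := hn
    obtain ⟨hcyc, hca⟩ := Equiv.Perm.mem_cycleFactorsFinset_iff.1 hc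
    simp only [Function.comp_apply, pow_one] at hcn
    obtain ⟨x, hx⟩ := Finset.card_pos.1 (by omega : 0 < c.support.card)
    have h1 := Equiv.Perm.apply_mem_support.2 hx
    have h2 := Equiv.Perm.apply_mem_support.2 h1
    refine absurd ?_ (h3 x)
    rw [← hca x hx, ← hca _ h1, ← hca _ h2]
    have : c ^ 3 = 1 := by rw [← hcn, ← hcyc.orderOf]; exact pow_orderOf_eq_one c
    simpa [pow_succ] using congrArg (fun f => f x) this
  | j + 2 => exact ⟨3 ^ j, by ring⟩

/-- Squaring on an abelian subgroup. -/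
def sqHom {A : Subgroup T} (hA : ∀ x ∈ A, ∀ y ∈ A, x * y = y * x) : A →* T where
  toFun a := a * a
  map_one' := by simp
  map_mul' a b := by
    show (a : T) * b * (a * b) = a * a * (b * b)
    rw [mul_assoc (a : T) b, ← mul_assoc (b : T) a b, hA b b.2 a a.2]
    group

/-- The subgroup of squares of an abelian subgroup. -/
def squares {A : Subgroup T} (hA : ∀ x ∈ A, ∀ y ∈ A, x * y = y * x) : Subgroup T := (sqHom hA).range

theorem mem_squares {A : Subgroup T} {hA : ∀ x ∈ A, ∀ y ∈ A, x * y = y * x} {x : T} :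
    x ∈ squares hA ↔ ∃ a ∈ A, a * a = x :=
  ⟨fun ⟨a, h⟩ => ⟨a, a.2, h⟩, fun ⟨a, ha, h⟩ => ⟨⟨a, ha⟩, h⟩⟩

theorem squares_le {A : Subgroup T} {hA : ∀ x ∈ A, ∀ y ∈ A, x * y = y * x} : squares hA ≤ A := fun x hx => by
  obtain ⟨a, ha, rfl⟩ := mem_squares.1 hx
  exact mul_mem ha ha

instance squares_normal {A : Subgroup T} [A.Normal] {hA : ∀ x ∈ A, ∀ y ∈ A, x * y = y * x} :
    (squares hA).Normal := ⟨fun x hx g => by
  obtain ⟨a, ha, rfl⟩ := mem_squares.1 hx
  exact mem_squares.2 ⟨g * a * g⁻¹, Subgroup.Normal.conj_mem ‹_› a ha g, by group⟩⟩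

namespace Setting

variable {α : MulAut T} {V : Subgroup T} (S : Setting α V)
include S

theorem map_squares {A : Subgroup T} {hA : ∀ x ∈ A, ∀ y ∈ A, x * y = y * x} (hAi : ∀ x ∈ A, α x ∈ A) :
    ∀ x ∈ squares hA, α x ∈ squares hA := fun x hx => by
  obtain ⟨a, ha, rfl⟩ := mem_squares.1 hx
  exact mem_squares.2 ⟨α a, hAi a ha, (map_mul α a a).symm⟩

/-- The classes of an abelian invariant subgroup modulo its squares. -/
theorem classes {A : Subgroup T} [A.Normal] {hA : ∀ x ∈ A, ∀ y ∈ A, x * y = y * x} (hVA : V ≤ A)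
    (hAi : ∀ x ∈ A, α x ∈ A) {x : T} (hx : x ∈ A) (hxW : x ∉ squares hA) :
    (∀ a ∈ A, a ∈ squares hA ∨ x⁻¹ * a ∈ squares hA ∨ (α x)⁻¹ * a ∈ squares hA ∨
      (x * α x)⁻¹ * a ∈ squares hA) ∧
    (x * α x)⁻¹ * α (α x) ∈ squares hA ∧ x⁻¹ * α (α (α x)) ∈ squares hA := by
  classical
  have hWi := S.map_squares (hA := hA) hAi
  set W := squares hA with hWdef
  let W' := W.subgroupOf A
  let π := QuotientGroup.mk' W'
  have hmem : ∀ {g : A}, π g = 1 ↔ (g : T) ∈ W := fun {g} =>
    (QuotientGroup.eq_one_iff g).trans Subgroup.mem_subgroupOf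
  have hsq : ∀ g : A, π g * π g = 1 := fun g => by
    rw [← map_mul]; exact hmem.2 (mem_squares.2 ⟨g, g.2, rfl⟩)
  have hinv : ∀ g : A, (π g)⁻¹ = π g := fun g => inv_eq_of_mul_eq_one_right (hsq g)
  have hq : Nat.card (A ⧸ W') = 4 := by
    let ψ := (sqHom hA)
    have h1 := Subgroup.card_eq_card_quotient_mul_card_subgroup ψ.ker
    rw [Nat.card_congr (QuotientGroup.quotientKerEquivRange ψ).toEquiv] at h1
    have h2 := Subgroup.card_eq_card_quotient_mul_card_subgroup W'
    have h3 : Nat.card W' = Nat.card W := Nat.card_congr (Subgroup.subgroupOfEquivOfLe squares_le).toEquiv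
    have h4 : Nat.card ψ.ker = 4 := by
      rw [← S.card]
      exact Nat.card_congr
        { toFun := fun k => ⟨((k : A) : T), (S.mem _).2 k.2⟩
          invFun := fun v => ⟨⟨v, hVA v.2⟩, (S.mem _).1 v.2⟩
          left_inv := fun k => rfl
          right_inv := fun v => rfl }
    rw [h4] at h1
    rw [h3, h1] at h2
    have h5 : 0 < Nat.card W := Nat.card_pos
    have h6 : Nat.card ψ.range = Nat.card W := rfl
    rw [h6, mul_comm] at h2
    exact (Nat.eq_of_mul_eq_mul_right h5 h2).symm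
  haveI := Fintype.ofFinite (A ⧸ W')
  let αA : A →* A :=
    { toFun := fun g => ⟨α g, hAi g g.2⟩
      map_one' := Subtype.ext (map_one α)
      map_mul' := fun g q => Subtype.ext (map_mul α _ _) }
  have hcomm : ∀ g q : A, π g * π q = π q * π g := fun g q => by
    rw [← map_mul, ← map_mul]
    exact congrArg π (Subtype.ext (hA g g.2 q q.2))
  have hdiv : ∀ {g q : A}, π g = π q → (q : T)⁻¹ * g ∈ W := fun {g q} h =>
    (hmem (g := q⁻¹ * g)).1 (by rw [map_mul, map_inv, h, inv_mul_cancel])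
  have hcong : ∀ {g q : A}, π g = π q → π (αA g) = π (αA q) := fun {g q} h => by
    have h1 : π (αA (q⁻¹ * g)) = 1 := hmem.2 (hWi _ (hdiv h))
    rw [map_mul, map_inv, map_mul, map_inv, inv_mul_eq_one] at h1
    exact h1.symm
  have hback : ∀ {g : A}, π (αA g) = 1 → π g = 1 := fun {g} h => hmem.2 (S.mem_of_map hWi (hmem.1 h))
  have hfix : ∀ {g : A}, π (αA g) = π g → π g = 1 := fun {g} h =>
    hmem.2 (S.fix_coset W hWi (hdiv (g := αA g) (q := g) h))
  set gx : A := ⟨x, hx⟩ with hgx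
  have hX1 : π gx ≠ 1 := fun h => hxW (hmem.1 h)
  have hY1 : π (αA gx) ≠ 1 := fun h => hX1 (hback h)
  have hXY : π gx ≠ π (αA gx) := fun h => hX1 (hfix h.symm)
  have hP1 : π gx * π (αA gx) ≠ 1 := fun h =>
    hXY ((hinv gx).symm.trans (inv_eq_of_mul_eq_one_right h))
  have hall : ∀ q : A ⧸ W', q = 1 ∨ q = π gx ∨ q = π (αA gx) ∨ q = π gx * π (αA gx) := by
    intro q
    have hcard : ({1, π gx, π (αA gx), π gx * π (αA gx)} : Finset (A ⧸ W')).card = 4 := by
      rw [Finset.card_insert_of_notMem, Finset.card_insert_of_notMem, Finset.card_pair]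
      · exact fun h => hX1 (mul_eq_right.1 h.symm)
      · simp only [Finset.mem_insert, Finset.mem_singleton, not_or]
        exact ⟨hXY, fun h => hY1 (mul_eq_left.1 h.symm)⟩
      · simp only [Finset.mem_insert, Finset.mem_singleton, not_or]
        exact ⟨Ne.symm hX1, Ne.symm hY1, Ne.symm hP1⟩
    have hu := Finset.eq_univ_of_card _ (hcard.trans (by rw [← hq, Nat.card_eq_fintype_card]))
    have := hu.symm ▸ Finset.mem_univ q
    simpa only [Finset.mem_insert, Finset.mem_singleton] using this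
  have hgz : π (αA (αA gx)) = π (gx * αA gx) := by
    rcases hall (π (αA (αA gx))) with h | h | h | h
    · exact absurd (hback (hback h)) hX1
    · exact absurd (map_mul π gx (αA gx) ▸ hfix (g := gx * αA gx) (by
        rw [map_mul αA, map_mul, h, map_mul, hcomm])) hP1
    · exact absurd (hback (hfix h)) hX1
    · exact h.trans (map_mul π _ _).symm
  refine ⟨fun a ha => ?_, hdiv hgz, ?_⟩
  · rcases hall (π ⟨a, ha⟩) with h | h | h | h
    · exact Or.inl (hmem.1 h)
    · exact Or.inr (Or.inl (hdiv (q := gx) h))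
    · exact Or.inr (Or.inr (Or.inl (hdiv (q := αA gx) h)))
    · exact Or.inr (Or.inr (Or.inr (hdiv (q := gx * αA gx) (h.trans (map_mul π _ _).symm))))
  · refine hdiv (g := αA (αA (αA gx))) (q := gx) ?_
    rw [hcong hgz, map_mul αA, map_mul, hgz, map_mul, ← mul_assoc, hcomm, mul_assoc, hsq, mul_one]

theorem cube_sq {A : Subgroup T} [A.Normal] {hA : ∀ x ∈ A, ∀ y ∈ A, x * y = y * x} (hVA : V ≤ A)
    (hAi : ∀ x ∈ A, α x ∈ A) {a : T} (ha : a ∈ A) : a⁻¹ * α (α (α a)) ∈ squares hA := by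
  by_cases h : a ∈ squares hA
  · exact mul_mem (inv_mem h) (S.map_squares hAi _ (S.map_squares hAi _ (S.map_squares hAi _ h)))
  · exact (S.classes hVA hAi ha h).2.2

theorem map_omegaMod {A C : Subgroup T} [A.Normal] (hAi : ∀ x ∈ A, α x ∈ A) (hCi : ∀ x ∈ C, α x ∈ C)
    {u : T} (hu : u ∈ omegaMod A C) : α u ∈ omegaMod A C := by
  obtain ⟨h1, h2, h3⟩ := hu
  refine ⟨hCi u h1, by rw [← map_mul]; exact hAi _ h2, fun g => ?_⟩
  obtain ⟨g', rfl⟩ := α.surjective g
  simpa using hAi _ (h3 g')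

/-- Some nontrivial element central of order two modulo `V` is fixed modulo `V` by the cube of `α`. -/
theorem exists_orbit_three [V.Normal] {C : Subgroup T} (hVC : V ≤ C) (hCi : ∀ x ∈ C, α x ∈ C)
    (hne : ∃ u ∈ omegaMod V C, u ∉ V) :
    ∃ u ∈ omegaMod V C, u ∉ V ∧ u⁻¹ * α (α (α u)) ∈ V := by
  classical
  by_contra hcon
  push Not at hcon
  have hVi : ∀ x ∈ V, α x ∈ V := fun x hx => S.map_mem hx
  set B := omegaMod V C with hBdef
  have hBi : ∀ x ∈ B, α x ∈ B := fun x hx => S.map_omegaMod hVi hCi hx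
  let π := QuotientGroup.mk' V
  have hmem : ∀ {g : T}, π g = 1 ↔ g ∈ V := fun {g} => QuotientGroup.eq_one_iff g
  let X := {q : T ⧸ V // q ∈ B.map π ∧ q ≠ 1}
  haveI := Fintype.ofFinite X
  let αb : T ⧸ V →* T ⧸ V := QuotientGroup.map V V α.toMonoidHom fun x hx => hVi x hx
  have hαb : ∀ g : T, αb (π g) = π (α g) := fun g => rfl
  have hαinj : Function.Injective αb := Finite.injective_iff_surjective.2 fun q => by
    obtain ⟨g, rfl⟩ := QuotientGroup.mk'_surjective V q
    obtain ⟨g', rfl⟩ := α.surjective g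
    exact ⟨π g', rfl⟩
  let f : X → X := fun q => ⟨αb q.1, by
    obtain ⟨g, hg, e⟩ := q.2.1
    exact ⟨α g, hBi g hg, by rw [← e]; rfl⟩, fun h => q.2.2 (hαinj (h.trans (map_one αb).symm))⟩
  have hfinj : Function.Injective f := fun p q h => Subtype.ext (hαinj (congrArg Subtype.val h))
  let σ : Equiv.Perm X := Equiv.ofBijective f (Finite.injective_iff_bijective.1 hfinj)
  have hσ : ∀ (m : ℕ) (q : X) (g : T), q.1 = π g → ((σ ^ m) q).1 = π ((α ^ m) g) := by
    intro m
    induction m with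
    | zero => intro q g h; exact h
    | succ m ih =>
      intro q g h
      rw [pow_succ', pow_succ', MulAut.mul_apply, Equiv.Perm.mul_apply]
      show αb ((σ ^ m) q).1 = _
      rw [ih q g h, hαb]
  obtain ⟨a, ha⟩ := S.order
  have h9 := nine_dvd_card σ a (Equiv.ext fun q => Subtype.ext (by
    obtain ⟨g, -, e⟩ := q.2.1
    rw [hσ _ q g e.symm, ha g, e]; rfl)) fun q h => by
    obtain ⟨g, hg, e⟩ := q.2.1
    have h3 := hσ 3 q g e.symm
    rw [show (σ ^ 3) q = σ (σ (σ q)) from rfl, h] at h3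
    refine hcon g hg (fun hgV => q.2.2 (e ▸ hmem.2 hgV)) (hmem.1 ?_)
    rw [map_mul, map_inv, inv_mul_eq_one, e, h3]
    rfl
  -- count
  let ψ : B →* T ⧸ V := π.comp B.subtype
  have hr : ψ.range = B.map π := by rw [MonoidHom.range_comp, Subgroup.range_subtype]
  have h1 := Subgroup.card_eq_card_quotient_mul_card_subgroup ψ.ker
  rw [Nat.card_congr (QuotientGroup.quotientKerEquivRange ψ).toEquiv, hr] at h1
  have hVB : V ≤ B := fun v hv => ⟨hVC hv, by rw [(S.mem v).1 hv]; exact V.one_mem, fun g => by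
    rw [S.central v hv g, mul_inv_cancel_right, mul_inv_cancel]; exact V.one_mem⟩
  have h4 : 4 ≤ Nat.card ψ.ker := by
    rw [← S.card]
    exact Nat.card_le_card_of_injective (fun v : V => (⟨⟨v, hVB v.2⟩, hmem.2 v.2⟩ : ψ.ker))
      fun v w h => Subtype.ext (congrArg (fun k : ψ.ker => ((k : B) : T)) h)
  have hB := S.card_omegaMod_le C hVC
  rw [← hBdef, h1] at hB
  have h32 : Nat.card (B.map π) ≤ 32 := by
    by_contra h
    push Not at h
    have := Nat.mul_le_mul h h4
    omega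
  obtain ⟨k, hk⟩ := IsPGroup.iff_card.mp ((S.pgroup.to_quotient V).to_subgroup (B.map π))
  have hX : Fintype.card X + 1 = 2 ^ k := by
    rw [← hk, ← Nat.card_eq_fintype_card, ← Finite.card_option]
    exact Nat.card_congr ((Equiv.optionSubtypeNe (⟨1, one_mem _⟩ : B.map π)).symm.trans
      (Equiv.optionCongr
        { toFun := fun q => ⟨q.1.1, q.1.2, fun h => q.2 (Subtype.ext h)⟩
          invFun := fun q => ⟨⟨q.1, q.2.1⟩, fun h => q.2.2 (congrArg Subtype.val h)⟩
          left_inv := fun q => rfl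
          right_inv := fun q => rfl })).symm
  have hk5 : k ≤ 5 := (Nat.pow_le_pow_iff_right (by norm_num : 1 < 2)).1 ((hk ▸ h32 : 2 ^ k ≤ 32))
  obtain ⟨u, huB, huV⟩ := hne
  have hpos : 0 < Fintype.card X := Fintype.card_pos_iff.2 ⟨⟨π u, ⟨u, huB, rfl⟩, fun h => huV (hmem.1 h)⟩⟩
  obtain ⟨m, hm⟩ := h9
  interval_cases k <;> omega

/-- A maximal invariant normal abelian subgroup is its own centralizer. -/
theorem self_centralizing {A : Subgroup T} [A.Normal] (hA : ∀ x ∈ A, ∀ y ∈ A, x * y = y * x)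
    (hVA : V ≤ A) (hAi : ∀ x ∈ A, α x ∈ A)
    (hmax : ∀ D : Subgroup T, A < D → D.Normal → (∀ x ∈ D, α x ∈ D) → ¬ ∀ x ∈ D, ∀ y ∈ D, x * y = y * x) :
    ∀ t : T, (∀ a ∈ A, a * t = t * a) → t ∈ A := by
  by_contra hcon
  push Not at hcon
  obtain ⟨t, ht, htA⟩ := hcon
  set C := Subgroup.centralizer (A : Set T) with hCdef
  haveI : C.Normal := Subgroup.normal_centralizer
  have hC : ∀ {c : T}, c ∈ C ↔ ∀ a ∈ A, a * c = c * a := fun {c} => Subgroup.mem_centralizer_iff
  have hAC : A ≤ C := fun a ha => hC.2 fun b hb => hA b hb a ha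
  have hlt : A < C := lt_of_le_of_ne hAC fun e => htA (e.symm ▸ hC.2 ht)
  have hCi : ∀ c ∈ C, α c ∈ C := fun c hc => hC.2 fun a ha => by
    obtain ⟨b, rfl⟩ := α.surjective a
    rw [← map_mul, ← map_mul, hC.1 hc b (S.mem_of_map hAi ha)]
  have fin : ∀ u ∈ omegaMod A C, u ∉ A → u * α u * u⁻¹ * (α u)⁻¹ ∈ V → u⁻¹ * α (α (α u)) ∈ A → False := by
    intro u hu huA hw h3
    obtain ⟨D, h1, h2, h4, h5⟩ := S.exists_larger hAi hA huA hu.2.1 hu.2.2 (hC.1 hu.1) hw h3
    exact hmax D h1 h2 h4 h5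
  obtain ⟨u, huC, huA, hu2, huc⟩ := exists_central_mod S.pgroup hlt
  by_cases hAV : A = V
  · subst hAV
    obtain ⟨v, hv, hvA, hv3⟩ := S.exists_orbit_three hAC hCi ⟨u, ⟨huC, hu2, huc⟩, huA⟩
    refine fin v hv hvA ?_ hv3
    exact (S.map_omegaMod hAi hCi hv).2.2 v
  · have hVsq : V ≤ squares hA := by
      obtain ⟨a, ha, haV⟩ : ∃ a ∈ A, a ∉ V := by
        by_contra h
        push Not at h
        exact hAV (le_antisymm h hVA)
      have hne : squares hA ≠ ⊥ := fun h => haV ((S.mem a).2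
        ((Subgroup.eq_bot_iff_forall _).1 h _ (mem_squares.2 ⟨a, ha, rfl⟩)))
      haveI : Nontrivial (squares hA) := Subgroup.nontrivial_iff_ne_bot _ |>.2 hne
      haveI : Fact (Nat.Prime 2) := ⟨Nat.prime_two⟩
      obtain ⟨k, hk, hkc⟩ := IsPGroup.nontrivial_iff_card (S.pgroup.to_subgroup (squares hA)) |>.1 inferInstance
      obtain ⟨z, hz⟩ := exists_prime_orderOf_dvd_card' (G := squares hA) 2
        (hkc ▸ dvd_pow_self 2 hk.ne')
      have hzV : (z : T) ∈ V := (S.mem _).2 (by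
        have := congrArg Subtype.val (hz ▸ pow_orderOf_eq_one z : z ^ 2 = 1)
        simpa [pow_two] using this)
      have hz1 : (z : T) ≠ 1 := fun h => by
        have hz' : z = 1 := Subtype.ext h
        rw [hz', orderOf_one] at hz
        omega
      intro v hv
      rcases S.four hzV (S.map_mem hzV) hz1 (S.map_ne_one hz1) (fun h => hz1 (S.fix _ h.symm)) hv with
        rfl | rfl | rfl | rfl
      exacts [one_mem _, z.2, S.map_squares hAi _ z.2, mul_mem z.2 (S.map_squares hAi _ z.2)]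
    have hcV : ∀ x ∈ omegaMod A C, ∀ c ∈ C, c * x * c⁻¹ * x⁻¹ ∈ V := by
      intro x hx c hc
      set k := c * x * c⁻¹ * x⁻¹ with hk
      have hkA : k ∈ A := hx.2.2 c
      have e1 : c * x = k * (x * c) := by rw [hk]; group
      have e2 : c * (x * x) = x * x * c := (hC.1 hc _ hx.2.1).symm
      have e3 : x * k = k * x := (hC.1 hx.1 k hkA).symm
      rw [S.mem]
      have e4 : c * (x * x) = k * k * (x * x * c) := by
        rw [← mul_assoc, e1, show k * (x * c) * x = k * x * (c * x) by group, e1,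
          show k * x * (k * (x * c)) = k * (x * k) * (x * c) by group, e3]
        group
      rw [e2] at e4
      exact mul_eq_right.1 e4.symm
    have hαu : ∀ x ∈ omegaMod A C, α x ∈ omegaMod A C := fun x hx => S.map_omegaMod hAi hCi hx
    have hu : u ∈ omegaMod A C := ⟨huC, hu2, huc⟩
    have hu3 : α (α (α u)) ∈ omegaMod A C := hαu _ (hαu _ (hαu _ hu))
    refine fin u hu huA (hcV _ (hαu u hu) u huC) ?_
    set y := u⁻¹ * α (α (α u)) with hy
    have hyC : y ∈ C := C.mul_mem (C.inv_mem huC) hu3.1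
    -- the square of `y` is a square from `A`
    have hyy : y * y ∈ squares hA := by
      set U3 := α (α (α u)) with hU3
      have hk := hcV _ (inv_mem hu) _ hu3.1
      have e : y * y = u⁻¹ * (U3 * u⁻¹ * U3⁻¹ * u⁻¹⁻¹) * (u⁻¹ * (U3 * U3)) := by rw [hy]; group
      rw [e, S.central _ hk u⁻¹, mul_assoc, ← mul_assoc u⁻¹ u⁻¹, ← mul_inv_rev,
        show U3 * U3 = α (α (α (u * u))) by rw [hU3, map_mul, map_mul, map_mul]]
      exact mul_mem (hVsq hk) (S.cube_sq hVA hAi hu2)
    obtain ⟨d, hd, hdy⟩ := mem_squares.1 hyy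
    have hdc : Commute d⁻¹ y := (show Commute d y from hC.1 hyC d hd).inv_left
    have : d⁻¹ * y ∈ V := (S.mem _).2 (by
      rw [mul_assoc d⁻¹, ← mul_assoc y, ← hdc.eq, mul_assoc d⁻¹ y, ← mul_assoc, ← hdy]; group)
    simpa using mul_mem hd (hVA this)

end Setting

end Cfsg.Agent.RankTwo
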