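import Cfsg.Agent.Lib.RankTwo.SelfCentralizing

/-!
`2`-groups with three involutions permuted by an automorphism of `3`-power order: the action on a
self-centralizing invariant abelian subgroup.
-/

set_option autoImplicit false
set_option linter.unusedSectionVars false

namespace Cfsg.Agent.RankTwo

variable {T : Type*} [Group T] [Finite T]

/-- A self-centralizing invariant normal abelian subgroup containing all involutions. -/
structure Core (α : MulAut T) (V A : Subgroup T) : Prop extends Setting α V where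
  normal : A.Normal
  comm : ∀ x ∈ A, ∀ y ∈ A, x * y = y * x
  le : V ≤ A
  inv : ∀ x ∈ A, α x ∈ A
  self : ∀ t : T, (∀ a ∈ A, a * t = t * a) → t ∈ A

/-- The commutator with `t`, as a map on the abelian subgroup. -/
abbrev hf (t a : T) : T := t * a * t⁻¹ * a⁻¹

theorem hf_comp (t t' a : T) : hf (t * t') a = hf t (hf t' a) * hf t' a * hf t a := by
  simp only [hf]; group

theorem map_hf (α : MulAut T) (t a : T) : α (hf t a) = hf (α t) (α a) := by simp [hf]

namespace Core

variable {α : MulAut T} {V A : Subgroup T} (C : Core α V A)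
include C

theorem hf_mem (t : T) {a : T} (ha : a ∈ A) : hf t a ∈ A :=
  A.mul_mem (C.normal.conj_mem a ha t) (A.inv_mem ha)

theorem hf_mul (t : T) {a b : T} (ha : a ∈ A) (hb : b ∈ A) : hf t (a * b) = hf t a * hf t b := by
  have h : hf t (a * b) = (t * a * t⁻¹) * (hf t b * a⁻¹) := by simp only [hf]; group
  rw [h, C.comm _ (C.hf_mem t hb) _ (A.inv_mem ha), ← mul_assoc]

theorem hf_pow (t : T) {a : T} (ha : a ∈ A) (n : ℕ) : hf t (a ^ n) = hf t a ^ n := by
  induction n with
  | zero => simp [hf]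
  | succ n ih => rw [pow_succ, pow_succ, C.hf_mul t (A.pow_mem ha n) ha, ih]

theorem hf_of_mem {t a : T} (ht : t ∈ A) (ha : a ∈ A) : hf t a = 1 := by
  simp only [hf]; rw [C.comm t ht a ha]; group

theorem hf_mul_mem (t : T) {k a : T} (hk : k ∈ A) (ha : a ∈ A) : hf (t * k) a = hf t a := by
  rw [hf_comp, C.hf_of_mem hk ha]
  simp [hf]

theorem act_trivial (t : T) {a : T} (ha : a ∈ A) : hf t a ∈ squares C.comm := by
  haveI := C.normal
  by_cases hAW : A ≤ squares C.comm
  · exact hAW (C.hf_mem t ha)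
  obtain ⟨u, hu, huW, -, huc⟩ :=
    exists_central_mod C.pgroup (lt_of_le_not_ge (squares_le (hA := C.comm)) hAW)
  have hB : A ≤ omegaMod (squares C.comm) A := by
    set B := omegaMod (squares C.comm) A with hBdef
    have hu' : u ∈ B := ⟨hu, mem_squares.2 ⟨u, hu, rfl⟩, huc⟩
    have hu'' : α u ∈ B := C.map_omegaMod (C.map_squares C.inv) C.inv hu'
    have hW : squares C.comm ≤ B := fun w hw =>
      ⟨squares_le hw, mul_mem hw hw, fun g => mul_mem (Subgroup.Normal.conj_mem inferInstance w hw g) (inv_mem hw)⟩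
    intro b hb
    rcases (C.classes C.le C.inv hu huW).1 b hb with h | h | h | h
    · exact hW h
    · simpa using mul_mem hu' (hW h)
    · simpa using mul_mem hu'' (hW h)
    · simpa [mul_assoc] using mul_mem (mul_mem hu' hu'') (hW h)
  exact (hB ha).2.2 t

theorem exists_not_square : ∃ x ∈ A, x ∉ squares C.comm := by
  by_contra h
  push Not at h
  have hsurj : Function.Surjective ((sqHom C.comm).codRestrict A fun a => mul_mem a.2 a.2) := fun a => by
    obtain ⟨b, hb, e⟩ := mem_squares.1 (h a a.2)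
    exact ⟨⟨b, hb⟩, Subtype.ext e⟩
  have hinj := Finite.injective_iff_surjective.2 hsurj
  haveI : Nontrivial V := Finite.one_lt_card_iff_nontrivial.1 (by rw [C.card]; norm_num)
  obtain ⟨v, hv⟩ := exists_ne (1 : V)
  refine hv (Subtype.ext (congrArg (fun z : A => (z : T)) (hinj (a₁ := ⟨v, C.le v.2⟩) (a₂ := 1) (Subtype.ext ?_))))
  show (v : T) * v = 1 * 1
  rw [(C.mem _).1 v.2, one_mul]

/-- All of `V` consists of `2 ^ m`-th powers, or all these powers are trivial. -/
theorem deep_or_exp (m : ℕ) :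
    (∀ v ∈ V, ∃ a ∈ A, a ^ 2 ^ m = v) ∨ ∀ a ∈ A, a ^ 2 ^ m = 1 := by
  refine or_iff_not_imp_right.2 fun h => ?_
  push Not at h
  obtain ⟨a, ha, hne⟩ := h
  obtain ⟨k, hk⟩ := IsPGroup.iff_orderOf.1 C.pgroup (a ^ 2 ^ m)
  rcases k with _ | k
  · exact absurd (orderOf_eq_one_iff.1 hk) hne
  set z := (a ^ 2 ^ m) ^ 2 ^ k with hz
  have hz1 : z ≠ 1 := fun h => by
    have := Nat.le_of_dvd (by positivity) (orderOf_dvd_of_pow_eq_one h)
    rw [hk, pow_succ] at this
    have : 0 < 2 ^ k := by positivity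
    omega
  have hzV : z ∈ V := (C.mem z).2 (by
    rw [hz, ← pow_add, ← two_mul, mul_comm, ← pow_succ, ← hk]
    exact pow_orderOf_eq_one _)
  set b := a ^ 2 ^ k with hb
  have hbz : b ^ 2 ^ m = z := by rw [hz, hb, ← pow_mul, ← pow_mul, mul_comm]
  have hbA : b ∈ A := A.pow_mem ha _
  have hbz' : (α b) ^ 2 ^ m = α z := by rw [← map_pow, hbz]
  intro v hv
  rcases C.four hzV (C.map_mem hzV) hz1 (C.map_ne_one hz1) (fun h => hz1 (C.fix _ h.symm)) hv with
    rfl | rfl | rfl | rfl
  · exact ⟨1, A.one_mem, one_pow _⟩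
  · exact ⟨b, hbA, hbz⟩
  · exact ⟨α b, C.inv b hbA, hbz'⟩
  · exact ⟨b * α b, A.mul_mem hbA (C.inv b hbA),
      by rw [(show Commute b (α b) from C.comm b hbA _ (C.inv b hbA)).mul_pow, hbz, hbz']⟩

theorem quad {t : T} (ht : t * t ∈ A) {a : T} (ha : a ∈ A) : hf t (hf t a) * (hf t a) ^ 2 = 1 := by
  have h := hf_comp t t a
  rw [C.hf_of_mem ht ha, mul_assoc, ← pow_two] at h
  exact h.symm

theorem step {t : T} (ht : t * t ∈ A) {m : ℕ} (hm : 2 ≤ m) (hd : ∀ v ∈ V, ∃ a ∈ A, a ^ 2 ^ (m + 1) = v)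
    (h : ∀ a ∈ A, ∃ b ∈ A, hf t a = b ^ 2 ^ m) {a : T} (ha : a ∈ A) :
    ∃ b ∈ A, hf t a = b ^ 2 ^ (m + 1) := by
  obtain ⟨n, rfl⟩ : ∃ n, m = n + 2 := ⟨m - 2, by omega⟩
  obtain ⟨b, hb, hab⟩ := h a ha
  obtain ⟨d, hdA, hbd⟩ := h b hb
  have hq := C.quad ht ha
  rw [hab, C.hf_pow t hb, hbd] at hq
  set e := d ^ 2 ^ n with he
  have heA : e ∈ A := A.pow_mem hdA _
  have hcomm : Commute b (e ^ 2) := C.comm b hb _ (A.pow_mem heA 2)
  have hz : (b * e ^ 2) ^ 2 ^ (n + 2) ∈ V := by
    refine (C.mem _).2 ?_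
    rw [← pow_two, ← pow_mul, hcomm.mul_pow]
    refine Eq.trans ?_ hq
    have h1 : Commute ((d ^ 2 ^ (n + 2)) ^ 2 ^ (n + 2)) ((b ^ 2 ^ (n + 2)) ^ 2) :=
      C.comm _ (A.pow_mem (A.pow_mem hdA _) _) _ (A.pow_mem (A.pow_mem hb _) _)
    rw [h1.eq, he]
    simp only [← pow_mul]
    congr 2
    ring
  obtain ⟨f, hf', hfz⟩ := hd _ hz
  refine ⟨f * e⁻¹, A.mul_mem hf' (A.inv_mem heA), ?_⟩
  rw [(show Commute f e⁻¹ from C.comm f hf' _ (A.inv_mem heA)).mul_pow, hfz, hcomm.mul_pow, inv_pow,
    ← pow_mul e 2, ← pow_succ', mul_inv_cancel_right, hab]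

/-- Commutators with elements of order two modulo `A` lie in `V`. -/
theorem hf_mem_V [A.Normal] {u : T} (hu : u ∈ omegaMod A (⊤ : Subgroup T)) {a : T} (ha : a ∈ A) :
    hf u a ∈ V := by
  classical
  have base : (∀ a ∈ A, a ^ 2 ^ 2 = 1) ∨ ∀ a ∈ A, ∃ b ∈ A, hf u a = b ^ 2 ^ 2 := by
    rcases C.deep_or_exp 2 with hd | he
    swap
    · exact Or.inl he
    right
    have hV4 : ∀ v ∈ V, ∃ d ∈ A, d ^ 4 = v := hd
    have hWi := C.map_squares (hA := C.comm) C.inv
    let W' := (squares C.comm).subgroupOf A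
    let π := QuotientGroup.mk' W'
    have hmem : ∀ {g : A}, π g = 1 ↔ (g : T) ∈ squares C.comm := fun {g} =>
      (QuotientGroup.eq_one_iff g).trans Subgroup.mem_subgroupOf
    have hinv : ∀ g : A, (π g)⁻¹ = π g := fun g => inv_eq_of_mul_eq_one_right (by
      rw [← map_mul]; exact hmem.2 (mem_squares.2 ⟨g, g.2, rfl⟩))
    have hcomm : ∀ p q : A ⧸ W', p * q = q * p := fun p q => by
      obtain ⟨p, rfl⟩ := QuotientGroup.mk'_surjective W' p
      obtain ⟨q, rfl⟩ := QuotientGroup.mk'_surjective W' q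
      show π p * π q = π q * π p
      rw [← map_mul, ← map_mul]
      exact congrArg π (Subtype.ext (C.comm p p.2 q q.2))
    have hqq : ∀ p : A ⧸ W', p * p = 1 := fun p => by
      obtain ⟨p, rfl⟩ := QuotientGroup.mk'_surjective W' p
      exact mul_eq_one_iff_inv_eq.2 (hinv p)
    have hroot : ∀ (t : T) (a : A), ∃ b : A, (b : T) * b = hf t a := fun t a => by
      obtain ⟨b, hb, e⟩ := mem_squares.1 (C.act_trivial t a.2)
      exact ⟨⟨b, hb⟩, e⟩
    choose r hr using hroot
    let g : T → A → A ⧸ W' := fun t a => π (r t a)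
    have gspec : ∀ {t : T} {a b : A}, (b : T) * b = hf t a → g t a = π b := fun {t a b} h => by
      have hv : ((b : A)⁻¹ * r t a : A).1 ∈ V := by
        refine (C.mem _).2 ?_
        show (b : T)⁻¹ * r t a * ((b : T)⁻¹ * r t a) = 1
        rw [(show Commute (r t a : T) (b : T)⁻¹ from
          C.comm _ (r t a).2 _ (inv_mem b.2)).mul_mul_mul_comm, hr, ← h]
        group
      obtain ⟨d, hd', e⟩ := hV4 _ hv
      have h1 : π (b⁻¹ * r t a) = 1 := hmem.2 (mem_squares.2 ⟨d ^ 2, A.pow_mem hd' 2, by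
        rw [← pow_add]; exact e⟩)
      rw [map_mul, map_inv, inv_mul_eq_one] at h1
      exact h1.symm
    have gmul : ∀ (t : T) (a b : A), g t (a * b) = g t a * g t b := fun t a b => by
      rw [gspec (t := t) (a := a * b) (b := r t a * r t b) ?_, map_mul]
      show (r t a : T) * r t b * (r t a * r t b) = hf t (a * b : T)
      rw [(show Commute (r t b : T) (r t a : T) from C.comm _ (r t b).2 _ (r t a).2).mul_mul_mul_comm,
        hr, hr, C.hf_mul t a.2 b.2]
    have gcong : ∀ (t : T) {a b : A}, π a = π b → g t a = g t b := fun t {a b} h => by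
      have h0 : π (a⁻¹ * b) = 1 := by rw [map_mul, map_inv, h, inv_mul_cancel]
      obtain ⟨e, he, hee⟩ := mem_squares.1 (hmem.1 h0)
      obtain ⟨f, hf', hff⟩ := mem_squares.1 (C.act_trivial t he)
      have h1 : g t (a⁻¹ * b) = 1 := by
        rw [gspec (b := ⟨f * f, mul_mem hf' hf'⟩) ?_]
        · exact hmem.2 (mem_squares.2 ⟨f, hf', rfl⟩)
        · show f * f * (f * f) = hf t ((a⁻¹ * b : A) : T)
          rw [← hee, C.hf_mul t he he, hff]
      rw [← mul_inv_cancel_left a b, gmul, h1, mul_one]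
    have gadd : ∀ (t t' : T) (a : A), g (t * t') a = g t a * g t' a := fun t t' a => by
      obtain ⟨d, hd', hdd⟩ := mem_squares.1 (C.act_trivial t (r t' a).2)
      rw [gspec (t := t * t') (a := a) (b := r t a * r t' a * ⟨d * d, mul_mem hd' hd'⟩) ?_, map_mul,
        map_mul, (hmem (g := ⟨d * d, mul_mem hd' hd'⟩)).2 (mem_squares.2 ⟨d, hd', rfl⟩), mul_one]
      show (r t a : T) * r t' a * (d * d) * (r t a * r t' a * (d * d)) = hf (t * t') (a : T)
      rw [hf_comp, ← hr t' a, C.hf_mul t (r t' a).2 (r t' a).2, ← hdd, ← hr t a]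
      have c1 : Commute (r t' a : T) (r t a) := C.comm _ (r t' a).2 _ (r t a).2
      have c2 : Commute (d * d) ((r t a : T) * r t' a) :=
        C.comm _ (mul_mem hd' hd') _ (mul_mem (r t a).2 (r t' a).2)
      rw [c2.mul_mul_mul_comm, c1.mul_mul_mul_comm,
        C.comm _ (mul_mem (r t a).2 (r t a).2) _ (mul_mem (r t' a).2 (r t' a).2),
        C.comm _ (mul_mem (mul_mem (r t' a).2 (r t' a).2) (mul_mem (r t a).2 (r t a).2)) _
          (mul_mem (mul_mem hd' hd') (mul_mem hd' hd'))]
      simp only [mul_assoc]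
    let αA : A → A := fun b => ⟨α b, C.inv b b.2⟩
    have hαmul : ∀ b c : A, αA (b * c) = αA b * αA c := fun b c => Subtype.ext (map_mul α _ _)
    have hαcong : ∀ {b c : A}, π b = π c → π (αA b) = π (αA c) := fun {b c} h => by
      have h0 : π (b⁻¹ * c) = 1 := by rw [map_mul, map_inv, h, inv_mul_cancel]
      have h1 : π (αA (b⁻¹ * c)) = 1 := hmem.2 (hWi _ (hmem.1 h0))
      rw [← mul_inv_cancel_left b c, hαmul, map_mul π (αA b), h1, mul_one]
    have gmap : ∀ {t : T} {a b : A}, g t a = π b → g (α t) (αA a) = π (αA b) := fun {t a b} h => by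
      rw [gspec (t := α t) (a := αA a) (b := αA (r t a)) ?_]
      · exact hαcong h
      · show α (r t a : T) * α (r t a : T) = hf (α t) (α a)
        rw [← map_mul, hr, map_hf]
    have hsurjA : ∀ a : A, ∃ b : A, αA b = a := fun a => by
      obtain ⟨b, hb⟩ := α.surjective (a : T)
      exact ⟨⟨b, C.mem_of_map C.inv (hb ▸ a.2)⟩, Subtype.ext hb⟩
    have gone : ∀ {t : T}, t ∈ A → ∀ a : A, g t a = 1 := fun {t} ht a => by
      rw [gspec (t := t) (a := a) (b := 1) ?_, map_one]
      show (1 : T) * 1 = hf t a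
      rw [C.hf_of_mem ht a.2, one_mul]
    have idem : ∀ {t : T}, t * t ∈ A → ∀ {a b : A}, g t a = π b → g t b = π b := fun {t} ht {a b} h => by
      rw [← gcong t (a := r t a) h, ← h]
      set c := r t a with hc
      have hq := C.quad ht a.2
      rw [← hr t a, C.hf_mul t c.2 c.2, pow_two] at hq
      have hv : hf t c * ((c : T) * c) ∈ V := (C.mem _).2 (by
        rw [(show Commute ((c : T) * c) (hf t c) from
          C.comm _ (mul_mem c.2 c.2) _ (C.hf_mem t c.2)).mul_mul_mul_comm]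
        exact hq)
      obtain ⟨d, hd', e⟩ := hV4 _ hv
      have hd2 : d ^ 2 * (c : T)⁻¹ ∈ A := mul_mem (A.pow_mem hd' 2) (inv_mem c.2)
      rw [gspec (b := ⟨d ^ 2 * (c : T)⁻¹, hd2⟩) ?_]
      · rw [show (⟨d ^ 2 * (c : T)⁻¹, hd2⟩ : A) = ⟨d ^ 2, A.pow_mem hd' 2⟩ * c⁻¹ from rfl, map_mul,
          (hmem (g := ⟨d ^ 2, A.pow_mem hd' 2⟩)).2 (mem_squares.2 ⟨d, hd', (pow_two d).symm⟩),
          one_mul, map_inv, hinv]
      · show d ^ 2 * (c : T)⁻¹ * (d ^ 2 * (c : T)⁻¹) = hf t c
        rw [(show Commute (c : T)⁻¹ (d ^ 2) from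
          C.comm _ (inv_mem c.2) _ (A.pow_mem hd' 2)).mul_mul_mul_comm, ← pow_add, e]
        group
    have hone : ∀ a : A, g u a = 1 := by
      by_contra hne
      push Not at hne
      obtain ⟨a0, ha0⟩ := hne
      obtain ⟨c, hc⟩ := QuotientGroup.mk'_surjective W' (g u a0)
      have hcX : g u c = π c := idem hu.2.1 hc.symm
      have hX : π c ≠ 1 := hc.symm ▸ ha0
      have hcW : (c : T) ∉ squares C.comm := fun h => hX (hmem.2 h)
      have hαu : α u ∈ omegaMod A (⊤ : Subgroup T) := C.map_omegaMod C.inv (fun x _ => Subgroup.mem_top _) hu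
      set s := α u with hs
      have hp : u * s * (u * s) ∈ A := (mul_mem hu hαu).2.1
      set Y := π (αA c) with hY
      have hYs : g s (αA c) = Y := gmap hcX
      have hall : ∀ q : A, π q = 1 ∨ π q = π c ∨ π q = Y ∨ π q = π c * Y := fun q => by
        rcases (C.classes C.le C.inv c.2 hcW).1 q q.2 with h | h | h | h
        · exact Or.inl (hmem.2 h)
        · refine Or.inr (Or.inl ?_)
          have := (hmem (g := c⁻¹ * q)).2 h
          rw [map_mul, map_inv, inv_mul_eq_one] at this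
          exact this.symm
        · refine Or.inr (Or.inr (Or.inl ?_))
          have := (hmem (g := (αA c)⁻¹ * q)).2 h
          rw [map_mul, map_inv, inv_mul_eq_one] at this
          exact this.symm
        · refine Or.inr (Or.inr (Or.inr ?_))
          have := (hmem (g := (c * αA c)⁻¹ * q)).2 h
          rw [map_mul, map_inv, inv_mul_eq_one, map_mul] at this
          exact this.symm
      have hZ : π (αA (αA c)) = π (c * αA c) := by
        have := (hmem (g := (c * αA c)⁻¹ * αA (αA c))).2 (C.classes C.le C.inv c.2 hcW).2.1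
        rw [map_mul, map_inv, inv_mul_eq_one] at this
        exact this.symm
      have hXne : Y ≠ 1 := fun h => hcW (C.mem_of_map hWi (hmem.1 h))
      rcases hall (r u (αA c)) with h | h | h | h
      · -- kernel the image class
        have h1 : g s (αA (αA c)) = π (αA 1) :=
          gmap (show g u (αA c) = π 1 by rw [map_one]; exact h)
        rw [show αA 1 = 1 from Subtype.ext (map_one α), map_one, gcong s hZ, gmul, hYs] at h1
        have h2 : g (u * s) c = π (c * αA c) := by
          rw [gadd, hcX, mul_eq_one_iff_eq_inv.1 h1, hY, hinv, map_mul]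
        have h3 := idem hp h2
        rw [gmul, h2, gadd u s (αA c), hYs, show g u (αA c) = 1 from h, one_mul, map_mul, ← hY,
          mul_assoc, hqq, mul_one, left_eq_mul] at h3
        exact hXne h3
      · -- image class fixed
        have h2 : g u (c * αA c) = π 1 := by
          rw [gmul, hcX, show g u (αA c) = π c from h, hqq, map_one]
        have h4 := gmap (show g u (αA (αA c)) = π 1 by rw [gcong u hZ, h2])
        rw [show αA 1 = 1 from Subtype.ext (map_one α), map_one] at h4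
        have h5 : π (αA (αA (αA c))) = π c := by
          rw [hαcong hZ, hαmul, map_mul, hZ, map_mul, hcomm, mul_assoc, ← hY, hqq, mul_one]
        rw [gcong s h5] at h4
        have h6 : g (u * s) c = π c := by rw [gadd, hcX, h4, mul_one]
        have h7 : g (u * s) (αA c) = π (c * αA c) := by
          rw [gadd, show g u (αA c) = π c from h, hYs, map_mul]
        have h8 := idem hp h7
        rw [gmul, h6, h7, map_mul, ← mul_assoc, hqq, one_mul, ← hY, eq_comm, mul_eq_right] at h8
        exact hX h8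
      · -- identity
        have hid : ∀ q : A, g u q = π q := fun q => by
          rcases hall q with e | e | e | e
          · rw [gcong u (show π q = π 1 by rw [e, map_one]),
              gcong u (show π 1 = π (c * c) by rw [map_one, map_mul, hqq]), gmul, hqq, e]
          · rw [gcong u e, hcX, e]
          · rw [gcong u (show π q = π (αA c) from e), show g u (αA c) = π (αA c) from h, e]
          · rw [gcong u (show π q = π (c * αA c) by rw [e, map_mul]), gmul, hcX,
              show g u (αA c) = π (αA c) from h, e]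
        let N : Subgroup T :=
          { carrier := {t | ∀ q : A, g t q = 1}
            one_mem' := gone A.one_mem
            mul_mem' := fun {t t'} ht ht' q => by rw [gadd, ht q, ht' q, one_mul]
            inv_mem' := fun {t} ht q => by
              have e := gadd t⁻¹ t q
              rw [inv_mul_cancel, gone A.one_mem, ht q, mul_one] at e
              exact e.symm }
        have hu' : u ∈ N := by
          refine C.fix_coset N (fun t ht q => ?_) fun q => ?_
          · obtain ⟨q', rfl⟩ := hsurjA q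
            rw [gmap (show g t q' = π 1 by rw [map_one]; exact ht q'),
              show αA 1 = 1 from Subtype.ext (map_one α), map_one]
          · obtain ⟨q', rfl⟩ := hsurjA q
            have e := gadd u⁻¹ u (αA q')
            rw [inv_mul_cancel, gone A.one_mem, hid] at e
            rw [gadd, gmap (hid q'), mul_eq_one_iff_eq_inv.1 e.symm, hinv]
            exact hqq _
        exact hX (hcX.symm.trans (hu' c))
      · -- not idempotent
        have h3 := idem hu.2.1 (show g u (αA c) = π (c * αA c) from h.trans (map_mul π _ _).symm)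
        rw [gmul, hcX, show g u (αA c) = π c * Y from h, ← mul_assoc, hqq, one_mul, map_mul, ← hY,
          right_eq_mul] at h3
        exact hX h3
    intro a ha
    obtain ⟨d, hd', e⟩ := mem_squares.1 (hmem.1 (hone ⟨a, ha⟩))
    exact ⟨d, hd', by rw [← hr u ⟨a, ha⟩, ← e]; simp [pow_succ, mul_assoc]⟩
  have hN : ∃ N, ∀ a ∈ A, a ^ 2 ^ N = 1 := by
    obtain ⟨N, hN⟩ := IsPGroup.iff_card.1 C.pgroup
    exact ⟨N, fun a _ => by rw [← hN]; exact pow_card_eq_one'⟩
  rcases base with he | hb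
  · obtain ⟨b, hb, hbb⟩ := mem_squares.1 (C.act_trivial u ha)
    refine (C.mem _).2 ?_
    rw [← hbb]
    have := he b hb
    simpa [pow_succ, mul_assoc] using this
  obtain ⟨N, hN⟩ := hN
  suffices H : ∀ j m : ℕ, 2 ≤ m → N ≤ m + j → (∀ a ∈ A, ∃ b ∈ A, hf u a = b ^ 2 ^ m) → hf u a ∈ V from
    H N 2 le_rfl (by omega) hb
  intro j
  induction j with
  | zero =>
    intro m _ hNm h
    obtain ⟨b, hb, e⟩ := h a ha
    obtain ⟨k, hk⟩ := Nat.exists_eq_add_of_le (show N ≤ m by omega)
    rw [e, hk, pow_add, pow_mul, hN b hb, one_pow]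
    exact V.one_mem
  | succ j ih =>
    intro m hm hNm h
    rcases C.deep_or_exp (m + 1) with hd | he
    · exact ih (m + 1) (by omega) (by omega) fun a ha => C.step hu.2.1 hm hd h ha
    · obtain ⟨b, hb, e⟩ := h a ha
      refine (C.mem _).2 ?_
      rw [e, ← pow_add, ← two_mul, ← pow_succ']
      exact he b hb

theorem hf_add {u u' : T} {a : T} (ha : a ∈ A) (h : hf u a ∈ V) (h' : hf u' a ∈ V) :
    hf (u * u') a = hf u a * hf u' a := by
  have hk : ∀ k ∈ V, hf u k = 1 := fun k hk => by simp only [hf]; rw [C.central k hk u]; group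
  rw [hf_comp, hk _ h', one_mul, C.central _ h (hf u' a)]

theorem hf_inv {u : T} {a : T} (ha : a ∈ A) (h : hf u a ∈ V) (h' : hf u⁻¹ a ∈ V) :
    hf u⁻¹ a = hf u a := by
  have e := C.hf_add ha h' h
  rw [inv_mul_cancel, C.hf_of_mem A.one_mem ha] at e
  rw [mul_eq_one_iff_eq_inv.1 e.symm, C.inv_eq h]

variable [A.Normal]

theorem hf_square {u : T} (hu : u ∈ omegaMod A (⊤ : Subgroup T)) {w : T} (hw : w ∈ squares C.comm) :
    hf u w = 1 := by
  obtain ⟨b, hb, rfl⟩ := mem_squares.1 hw
  rw [C.hf_mul u hb hb]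
  exact (C.mem _).1 (C.hf_mem_V hu hb)

theorem hf_cong {u : T} (hu : u ∈ omegaMod A (⊤ : Subgroup T)) {a b : T} (ha : a ∈ A)
    (h : a⁻¹ * b ∈ squares C.comm) : hf u b = hf u a := by
  rw [← mul_inv_cancel_left a b, C.hf_mul u ha (squares_le h), C.hf_square hu h, mul_one]

theorem cube_mod {u : T} (hu : u ∈ omegaMod A (⊤ : Subgroup T)) : u⁻¹ * α (α (α u)) ∈ A := by
  have hUi : ∀ {t}, t ∈ omegaMod A (⊤ : Subgroup T) → α t ∈ omegaMod A (⊤ : Subgroup T) :=
    fun {t} ht => C.map_omegaMod C.inv (fun x _ => Subgroup.mem_top _) ht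
  have hu3 := hUi (hUi (hUi hu))
  refine C.self _ fun a ha => ?_
  have h1 : hf (α (α (α u))) a = hf u a := by
    have e : hf (α (α (α u))) (α (α (α a))) = hf u a := by
      rw [← map_hf, ← map_hf, ← map_hf, C.alpha_cube (C.hf_mem_V hu ha)]
    rw [← e]
    exact (C.hf_cong hu3 ha (C.cube_sq C.le C.inv ha)).symm
  have h2 : hf (u⁻¹ * α (α (α u))) a = 1 := by
    rw [C.hf_add ha (C.hf_mem_V (inv_mem hu) ha) (C.hf_mem_V hu3 ha), h1,
      C.hf_inv ha (C.hf_mem_V hu ha) (C.hf_mem_V (inv_mem hu) ha), (C.mem _).1 (C.hf_mem_V hu ha)]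
  have h3 := mul_inv_eq_one.1 h2
  exact (mul_inv_eq_iff_eq_mul.1 h3).symm

theorem hf_alpha {u x : T} (hu : u ∈ omegaMod A (⊤ : Subgroup T)) (hx : x ∈ A)
    (hxW : x ∉ squares C.comm) : hf u (α x) = α (α (hf u x)) := by
  have hαu : α u ∈ omegaMod A (⊤ : Subgroup T) := C.map_omegaMod C.inv (fun x _ => Subgroup.mem_top _) hu
  have hk := C.orbit_mod C.inv hu.2.1 hu.2.2 (C.cube_mod hu)
  have hx2 := (C.classes C.le C.inv hx hxW).2.1
  have hp := C.hf_mem_V hu hx
  have hq := C.hf_mem_V hu (C.inv x hx)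
  set p := hf u x with hpdef
  set q := hf u (α x) with hqdef
  have h1 : hf (α u) (α (α x)) = α q := (map_hf α u (α x)).symm
  have h2 : hf u (α (α x)) = p * q := by
    rw [C.hf_cong hu (A.mul_mem hx (C.inv x hx)) hx2, C.hf_mul u hx (C.inv x hx)]
  have h3 : hf (α (α u)) (α (α x)) = p * q * α q := by
    rw [show α (α u) = u * α u * ((u * α u)⁻¹ * α (α u)) by group,
      C.hf_mul_mem _ hk (C.inv _ (C.inv x hx)), C.hf_add (C.inv _ (C.inv x hx))
        (C.hf_mem_V hu (C.inv _ (C.inv x hx))) (C.hf_mem_V hαu (C.inv _ (C.inv x hx))), h1, h2]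
  have h4 : α (α p) = p * q * α q := by rw [map_hf, map_hf]; exact h3
  rw [C.alpha_sq hp] at h4
  have h5 : α p = q * α q := mul_left_cancel (h4.trans (mul_assoc _ _ _))
  rw [← C.alpha_sq hq] at h5
  rw [α.injective h5, C.alpha_cube hq]

theorem mem_of_hf_eq_one {u x : T} (hu : u ∈ omegaMod A (⊤ : Subgroup T)) (hx : x ∈ A)
    (hxW : x ∉ squares C.comm) (h : hf u x = 1) : u ∈ A := by
  have h' : hf u (α x) = 1 := by rw [C.hf_alpha hu hx hxW, h, map_one, map_one]
  refine C.self _ fun a ha => ?_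
  have h2 : hf u a = 1 := by
    rcases (C.classes C.le C.inv hx hxW).1 a ha with e | e | e | e
    · exact C.hf_square hu e
    · rw [C.hf_cong hu hx e, h]
    · rw [C.hf_cong hu (C.inv x hx) e, h']
    · rw [C.hf_cong hu (A.mul_mem hx (C.inv x hx)) e, C.hf_mul u hx (C.inv x hx), h, h', one_mul]
  exact (mul_inv_eq_iff_eq_mul.1 (mul_inv_eq_one.1 h2)).symm

theorem hf_map_fst {u x : T} (hu : u ∈ omegaMod A (⊤ : Subgroup T)) (hx : x ∈ A)
    (hxW : x ∉ squares C.comm) : hf (α u) x = α (α (hf u x)) := by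
  have hαu : α u ∈ omegaMod A (⊤ : Subgroup T) := C.map_omegaMod C.inv (fun x _ => Subgroup.mem_top _) hu
  have e := C.hf_alpha hαu hx hxW
  rw [← map_hf, EmbeddingLike.apply_eq_iff_eq] at e
  rw [e, C.alpha_cube (C.hf_mem_V hαu hx)]

/-- If `A` is proper, its squares are the elements of `V`, and all of the group is elementary modulo `A`. -/
theorem exp_four (hne : ∃ t, t ∉ A) :
    (∀ x, x ∈ squares C.comm ↔ x ∈ V) ∧ omegaMod A (⊤ : Subgroup T) = ⊤ := by
  obtain ⟨t0, ht0⟩ := hne
  obtain ⟨u, -, huA, hu2, huc⟩ :=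
    exists_central_mod C.pgroup ((lt_top_iff_ne_top (a := A)).2 fun e => ht0 (by rw [e]; exact Subgroup.mem_top t0))
  have hu : u ∈ omegaMod A (⊤ : Subgroup T) := ⟨trivial, hu2, huc⟩
  have hu2W : u * u ∈ squares C.comm := by
    by_contra h
    refine huA (C.mem_of_hf_eq_one hu hu2 h ?_)
    simp only [hf]; group
  have h4 : ∀ a ∈ A, a ^ 4 = 1 := by
    rcases C.deep_or_exp 2 with hd | he
    swap
    · exact he
    exfalso
    obtain ⟨e, he, hee⟩ := mem_squares.1 hu2W
    have hk := C.hf_mem_V hu he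
    obtain ⟨d, hd', hde⟩ := hd _ hk
    set a := e⁻¹ * d ^ 2 with ha
    have haA : a ∈ A := A.mul_mem (A.inv_mem he) (A.pow_mem hd' 2)
    have h1 : hf u a = hf u e := by
      rw [ha, C.hf_mul u (A.inv_mem he) (A.pow_mem hd' 2),
        C.hf_square hu (mem_squares.2 ⟨d, hd', (pow_two d).symm⟩), mul_one]
      have h0 := C.hf_mul u (A.inv_mem he) he
      rw [inv_mul_cancel, show hf u 1 = 1 by simp [hf]] at h0
      rw [mul_eq_one_iff_eq_inv.1 h0.symm, C.inv_eq hk]
    have h2 : (u * a) * (u * a) = 1 := by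
      have e1 : (u * a) * (u * a) = u * u * (hf u⁻¹ a * (a * a)) := by simp only [hf]; group
      have caa : a * a = (e * e)⁻¹ * (d ^ 2 * d ^ 2) := by
        rw [ha, (show Commute (d ^ 2) e⁻¹ from
          C.comm _ (A.pow_mem hd' 2) _ (A.inv_mem he)).mul_mul_mul_comm, mul_inv_rev]
      rw [e1, C.hf_inv haA (C.hf_mem_V hu haA) (C.hf_mem_V (inv_mem hu) haA), h1, ← hee, caa,
        ← mul_assoc (hf u e), (show Commute (hf u e) (e * e)⁻¹ from
          C.comm _ (C.le hk) _ (A.inv_mem (mul_mem he he))).eq, mul_assoc (e * e)⁻¹, mul_inv_cancel_left,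
        ← pow_add, show 2 + 2 = 2 ^ 2 from rfl, hde]
      exact (C.mem _).1 hk
    exact huA (by simpa using mul_mem (C.le ((C.mem _).2 h2)) (A.inv_mem haA))
  have hWV : ∀ x, x ∈ squares C.comm → x ∈ V := fun x hx => by
    obtain ⟨a, ha, rfl⟩ := mem_squares.1 hx
    exact (C.mem _).2 (by simpa [pow_succ, mul_assoc] using h4 a ha)
  have hVW : ∀ x ∈ V, x ∈ squares C.comm := by
    obtain ⟨a, ha, haV⟩ : ∃ a ∈ A, a ∉ V := by
      by_contra h
      push Not at h
      exact ht0 (C.self t0 fun a ha => (C.central a (h a ha) t0).symm)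
    have hz : a * a ∈ V := hWV _ (mem_squares.2 ⟨a, ha, rfl⟩)
    have hz1 : a * a ≠ 1 := fun h => haV ((C.mem a).2 h)
    have haW : a * a ∈ squares C.comm := mem_squares.2 ⟨a, ha, rfl⟩
    have haW' := C.map_squares C.inv _ haW
    intro v hv
    rcases C.four hz (C.map_mem hz) hz1 (C.map_ne_one hz1) (fun h => hz1 (C.fix _ h.symm)) hv with
      rfl | rfl | rfl | rfl
    exacts [one_mem _, haW, haW', mul_mem haW haW']
  refine ⟨fun x => ⟨hWV x, hVW x⟩, eq_top_iff.2 fun t _ => ?_⟩
  have hV : ∀ (t : T) {a : T}, a ∈ A → hf t a ∈ V := fun t a ha => hWV _ (C.act_trivial t ha)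
  refine ⟨trivial, C.self _ fun a ha => ?_, fun g => C.self _ fun a ha => ?_⟩
  · have h2 : hf (t * t) a = 1 := by
      rw [C.hf_add ha (hV t ha) (hV t ha), (C.mem _).1 (hV t ha)]
    exact (mul_inv_eq_iff_eq_mul.1 (mul_inv_eq_one.1 h2)).symm
  · have h2 : hf (g * t * g⁻¹ * t⁻¹) a = 1 := by
      rw [C.hf_add ha (hV _ ha) (hV _ ha), C.hf_add ha (hV _ ha) (hV _ ha),
        C.hf_add ha (hV _ ha) (hV _ ha), C.hf_inv ha (hV g ha) (hV _ ha),
        C.hf_inv ha (hV t ha) (hV _ ha), C.central _ (hV t ha) (hf g a),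
        mul_assoc (hf t a), (C.mem _).1 (hV g ha), mul_one, (C.mem _).1 (hV t ha)]
    exact (mul_inv_eq_iff_eq_mul.1 (mul_inv_eq_one.1 h2)).symm

end Core

end Cfsg.Agent.RankTwo
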